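import Mathlib
import Cfsg.Agent.Blk.OneConst
import Cfsg.Prelude.Def_Classical

/-!
# Simple groups of order `2^a * 3 * 5 * q^b`: definitions

`PB S n`: the `n = p - 1` nonprincipal characters of the principal `p`-block when a Sylow
`p`-subgroup has order `p` and `|N : C| = p - 1`.
-/

set_option autoImplicit false
set_option linter.unusedSectionVars false

namespace Cfsg.Agent.B15

open Cfsg Cfsg.Agent.Ch Cfsg.Agent.Blk.One Subgroup

/-- The conclusion of S3270. -/
def Concl (G : Type*) [Group G] : Prop :=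
  (∃ (F : Type) (_ : Field F) (_ : Fintype F),
      (Fintype.card F = 5 ∨ Fintype.card F = 9 ∨ Fintype.card F = 11 ∨ Fintype.card F = 16 ∨
        Fintype.card F = 31) ∧
        Nonempty (G ≃* Matrix.ProjectiveSpecialLinearGroup (Fin 2) F)) ∨
    (∃ (F : Type) (_ : Field F) (_ : Fintype F), Fintype.card F = 4 ∧
      Nonempty (G ≃* Cfsg.PSU 4 F 2))

/-- The hypothesis of S3270 on the order. -/
def Ord (G : Type*) [Group G] : Prop :=
  ∃ a b q : ℕ, q.Prime ∧ Nat.card G = 2 ^ a * 3 * 5 * q ^ b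

variable {G : Type*} [Group G] [Fintype G] {p n : ℕ}

structure PB (S : Setup p G) (n : ℕ) where
  χ : Fin n → IrrCharacter G
  δ : Fin n → ℤ
  hn : n + 1 = p
  he : S.C.relIndex S.N = n
  inj : Function.Injective χ
  ne_one : ∀ i, χ i ≠ irrOne G
  sign : ∀ i, δ i = 1 ∨ δ i = -1
  sing : ∀ i g, p ∣ orderOf g → (χ i : G → ℂ) g = δ i
  reg : ∀ g, ¬ p ∣ orderOf g → 1 + ∑ i, (δ i : ℂ) * (χ i : G → ℂ) g = 0

namespace PB

variable {S : Setup p G} (D : PB S n)

/-- degrees -/
noncomputable def d (i : Fin n) : ℕ := charDegree (D.χ i : G → ℂ)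

/-- signed degrees -/
noncomputable def A (i : Fin n) : ℤ := D.δ i * D.d i

/-- the bilinear expression counting products that are `p`-singular -/
noncomputable def B (g h : G) : ℂ :=
  1 + ∑ i, (D.δ i : ℂ) * (D.χ i : G → ℂ) g * (D.χ i : G → ℂ) h / (D.d i : ℂ)

/-- `a` lists the signed values at `g`, all of them integers -/
def Val (g : G) (a : Fin n → ℤ) : Prop := ∀ i, (D.δ i : ℂ) * (D.χ i : G → ℂ) g = a i

/-- renumbering -/
def perm (σ : Equiv.Perm (Fin n)) : PB S n where
  χ i := D.χ (σ i)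
  δ i := D.δ (σ i)
  hn := D.hn
  he := D.he
  inj := D.inj.comp σ.injective
  ne_one i := D.ne_one _
  sign i := D.sign _
  sing i := D.sing _
  reg g hg := by
    rw [← D.reg g hg, ← Equiv.sum_comp σ fun i => (D.δ i : ℂ) * (D.χ i : G → ℂ) g]

theorem perm_A (σ : Equiv.Perm (Fin n)) : (D.perm σ).A = D.A ∘ σ := rfl

theorem perm_d (σ : Equiv.Perm (Fin n)) (i : Fin n) : (D.perm σ).d i = D.d (σ i) := rfl

theorem natAbs_A (i : Fin n) : (D.A i).natAbs = D.d i := by
  rcases D.sign i with h | h <;> simp [A, h]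

theorem abs_A (i : Fin n) : |D.A i| = D.d i := by
  rw [← D.natAbs_A, Int.natCast_natAbs]

theorem δ_sq (i : Fin n) : D.δ i * D.δ i = 1 := by
  rcases D.sign i with h | h <;> simp [h]

end PB

/-- rational form of `PB.B` -/
def Bq (A a b : Fin n → ℤ) : ℚ := 1 + ∑ i, (a i * b i : ℚ) / A i

/-- The numerical constraints on the signed values `a` at an `r`-central element of order `r`. -/
structure Num (p r : ℕ) (A a : Fin n → ℤ) : Prop where
  sum : 1 + ∑ i, a i = 0
  lt : ∀ i, |a i| < |A i|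
  dvd : ∀ i (k : ℕ), (r : ℤ) ^ k ∣ A i → (r : ℤ) ^ k ∣ a i
  pure : ∀ i (k : ℕ), |A i| = (r : ℤ) ^ k → a i = 0
  nonneg : 0 ≤ Bq A a a
  le : Bq A a a ≤ p
  val : ∀ i (k : ℕ), (r : ℤ) ^ k ∣ A i → ∃ m u : ℕ, m.Coprime r ∧ Bq A a a * m = r ^ k * u

/-- solutions of the degree equation containing `-4`, `6` or `-9` -/
def small : List (Fin 4 → ℤ) :=
  [![-4, 6, 6, -9], ![-4, -4, -9, 16], ![-9, 16, 16, -24], ![-4, -9, -24, 36], ![-9, 36, 36, -64],
    ![-9, -9, -64, 81], ![-4, -24, -54, 81], ![6, -24, -64, 81], ![-9, -24, -64, 96],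
    ![-9, -64, -144, 216]]

/-- the other solutions of the degree equation -/
def big : List (Fin 4 → ℤ) :=
  [![36, -54, -64, 81], ![216, 256, 256, -729], ![-64, 216, 576, -729], ![216, -729, -1024, 1536],
    ![-384, -729, -16384, 17496]]

end Cfsg.Agent.B15
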