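import Mathlib
import Cfsg.Agent.B15.Defs
import Cfsg.Agent.Blk.OneBR2
import Cfsg.Agent.Blk.Local2
import Cfsg.Agent.Ch.Linear

/-! # Simple groups of order `2^a * 3 * 5 * q^b`: the principal block, basic facts -/

set_option autoImplicit false
set_option linter.unusedSectionVars false
set_option linter.unusedVariables false

namespace Cfsg.Agent.B15

open Cfsg Cfsg.Agent.Ch Cfsg.Agent.Blk.One Subgroup

section General
variable {G : Type*} [Group G] [Finite G]

theorem ker_bot [IsSimpleGroup G] {χ : IrrCharacter G} (h1 : χ ≠ irrOne G) :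
    charKer (χ : G → ℂ) = ⊥ :=
  χ.2.charKer_eq_bot_of_simple fun h => h1 (Subtype.ext h)

theorem norm_lt [IsSimpleGroup G] (hG : ¬ IsMulCommutative G) {χ : IrrCharacter G}
    (h1 : χ ≠ irrOne G) {g : G} (hg : g ≠ 1) : ‖(χ : G → ℂ) g‖ < charDegree (χ : G → ℂ) := by
  refine lt_of_le_of_ne (χ.2.isCharacter.norm_le g) fun h => hg ?_
  have h2 : g ∈ center G :=
    χ.2.charCenter_eq_center (ker_bot h1) ▸ χ.2.isCharacter.mem_charCenter.2 h
  rcases (inferInstance : (center G).Normal).eq_bot_or_eq_top with e | e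
  · rwa [e, mem_bot] at h2
  · exact absurd ⟨⟨fun a b => mem_center_iff.1 (e ▸ mem_top b) a⟩⟩ hG

theorem abs_lt [IsSimpleGroup G] (hG : ¬ IsMulCommutative G) {χ : IrrCharacter G}
    (h1 : χ ≠ irrOne G) {g : G} (hg : g ≠ 1) {m : ℤ} (hm : (χ : G → ℂ) g = m) :
    |m| < charDegree (χ : G → ℂ) := by
  have := norm_lt hG h1 hg
  rw [hm, Complex.norm_intCast] at this
  exact_mod_cast this

theorem one_lt_deg [IsSimpleGroup G] (hG : ¬ IsMulCommutative G) {χ : IrrCharacter G}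
    (h1 : χ ≠ irrOne G) : 1 < charDegree (χ : G → ℂ) := by
  refine lt_of_le_of_ne χ.2.charDegree_pos fun h => ?_
  obtain ⟨g, hg⟩ := exists_ne (1 : G)
  have h2 := χ.2.apply_one_eq_one_iff_charCenter.1 (χ.2.isCharacter.charDegree_eq_one_iff.1 h.symm)
  exact (norm_lt hG h1 hg).ne (χ.2.isCharacter.mem_charCenter.1 (h2 ▸ mem_top g))

/-- Blichfeldt's divisibility. -/
theorem blich {χ : G → ℂ} (hχ : IsCharacter G χ) (H : Subgroup G) (W : Finset ℤ)
    (h : ∀ g ∈ H, g ≠ 1 → ∃ w ∈ W, χ g = w) :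
    (Nat.card H : ℤ) ∣ ∏ w ∈ W, ((charDegree χ : ℤ) - w) := by
  have := Fintype.ofFinite H
  have h1 : IsGeneralizedCharacter H (∏ w ∈ W, ((fun x : H => χ x) - (w : ℂ) • fun _ => (1 : ℂ))) :=
    IsGeneralizedCharacter.prod fun w _ =>
      (hχ.restrict H).isGeneralizedCharacter.sub (IsGeneralizedCharacter.one.intCast_smul w)
  obtain ⟨n, hn⟩ := h1.exists_int_classInner IsGeneralizedCharacter.one
  rw [classInner_one_right, Finset.sum_eq_single 1 (fun x _ hx => ?_) (by simp)] at hn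
  · refine ⟨n, ?_⟩
    have h0 := natCard_ne_zero H
    rw [inv_mul_eq_iff_eq_mul₀ h0, Finset.prod_apply] at hn
    simp only [Pi.sub_apply, Pi.smul_apply, coe_one, smul_eq_mul, mul_one, ← hχ.coe_charDegree] at hn
    exact_mod_cast hn
  · obtain ⟨w, hw, e⟩ := h x x.2 fun e => hx (Subtype.ext e)
    rw [Finset.prod_apply]
    exact Finset.prod_eq_zero hw (by simp [e])

theorem cong_deg {χ : G → ℂ} (hχ : IsCharacter G χ) {r k : ℕ} (hr : r.Prime) {g : G}
    (hg : g ^ r ^ k = 1) (hint : ∀ y ∈ zpowers g, ∃ m : ℤ, χ y = m) {m : ℤ} (hm : χ g = m) :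
    m ≡ charDegree χ [ZMOD r] :=
  (Int.modEq_iff_dvd.2 (hχ.prime_dvd_sub_charDegree hr hg hm)).symm

/-- an `r`-central element of order `r` -/
theorem exists_central {r : ℕ} (hr : r.Prime) (h : r ∣ Nat.card G) :
    ∃ z : G, orderOf z = r ∧ ¬ r ∣ (centralizer ({z} : Set G)).index := by
  have := Fact.mk hr
  obtain ⟨P⟩ : Nonempty (Sylow r G) := inferInstance
  have h1 : Nontrivial P := (P.1.nontrivial_iff_ne_bot).2 (P.ne_bot_of_dvd_card h)
  have h2 := P.isPGroup'.center_nontrivial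
  obtain ⟨k, hk0, hk⟩ := (P.isPGroup'.to_subgroup (center P)).nontrivial_iff_card.1 h2
  obtain ⟨z, hz⟩ := exists_prime_orderOf_dvd_card' r (hk ▸ dvd_pow_self r hk0.ne' : r ∣ Nat.card (center P))
  refine ⟨z.1.1, by rw [orderOf_coe, orderOf_coe, hz], fun h3 => P.not_dvd_index (h3.trans (index_dvd_of_le ?_))⟩
  intro y hy
  rw [mem_centralizer_singleton_iff]
  exact congrArg Subtype.val (mem_center_iff.1 z.2 ⟨y, hy⟩)

end General

variable {G : Type*} [Group G] [Fintype G] {p n : ℕ} [Fact p.Prime]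

theorem exists_setup' (h1 : p ∣ Nat.card G) (h2 : ¬ p ^ 2 ∣ Nat.card G) :
    Nonempty (Setup p G) := by
  obtain ⟨P⟩ : Nonempty (Sylow p G) := inferInstance
  obtain ⟨S, -⟩ := exists_setup P (card_sylow_of_not_sq P h1 h2)
  exact ⟨S⟩

/-- a character constant on the `p`-singular elements is congruent to that constant on `C`. -/
theorem cong_C (S : Setup p G) {χ : G → ℂ} (hχ : IsCharacter G χ) {c : ℤ}
    (h : ∀ g, p ∣ orderOf g → χ g = c) {v : G} (hv : v ∈ S.C) (hv' : ¬ p ∣ orderOf v) {m : ℤ}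
    (hm : χ v = m) : m ≡ c [ZMOD p] := by
  obtain ⟨θ, h1, -, h3⟩ := S.exists_four hχ 1
  have h4 := h3 ⟨v, hv⟩ (by rwa [← orderOf_coe])
  have h5 := sum_units_ps (1 : ZMod p)
  rw [if_neg one_ne_zero] at h5
  simp only [h _ (S.dvd_orderOf_x_pow_mul _ hv hv'), mul_comm (1 : ZMod p), ← Finset.mul_sum, h5, hm] at h4
  refine (Int.modEq_iff_dvd.2 (integral_int_dvd_of_eq_mul (h1.isIntegral ⟨v, hv⟩) ?_)).symm
  push_cast
  linear_combination -h4

theorem exists_pb (S : Setup p G) (hn : n + 1 = p) (h2 : p ≠ 2) (he : S.C.relIndex S.N = n) :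
    Nonempty (PB S n) := by
  classical
  obtain ⟨M, hM⟩ := Blk.exists_isPModular (Fact.out : p.Prime)
  obtain ⟨D, h1, h1'⟩ := S.exists_pData hM
  let e : Fin n ≃ D.X := (Finset.equivFinOfCardEq (D.card_X'.trans he)).symm
  have hY : D.Y 1 ≠ irrOne G := fun h => D.Y_notMem 1 (h ▸ h1)
  refine ⟨⟨fun i => if (e i).1 = irrOne G then D.Y 1 else (e i).1,
    fun i => if (e i).1 = irrOne G then -D.ε else D.δ (e i).1, hn, he, fun i j hij => ?_, fun i => ?_,
    fun i => ?_, fun i g hg => ?_, fun g hg => ?_⟩⟩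
  · refine e.injective (Subtype.ext ?_)
    beta_reduce at hij
    split_ifs at hij with a b b
    · rw [a, b]
    · exact absurd (hij ▸ (e j).2) (D.Y_notMem 1)
    · exact absurd (hij ▸ (e i).2) (D.Y_notMem 1)
    · exact hij
  · split_ifs with a
    exacts [hY, a]
  · split_ifs with a
    · rcases D.ε_sign with h | h <;> simp [h]
    · exact D.δ_sign _ (e i).2
  · split_ifs with a
    · rw [D.Y_singular_of_eq (by omega) 1 hg, Int.cast_neg]
    · exact D.X_singular (e i).2 hg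
  · have h3 := D.regular_rel 1 hg
    rw [e.sum_comp fun ψ => (((if ψ.1 = irrOne G then -D.ε else D.δ ψ.1 : ℤ) : ℂ) *
        ((if ψ.1 = irrOne G then D.Y 1 else ψ.1 : IrrCharacter G) : G → ℂ) g),
      Finset.sum_coe_sort D.X fun ψ => (((if ψ = irrOne G then -D.ε else D.δ ψ : ℤ) : ℂ) *
        ((if ψ = irrOne G then D.Y 1 else ψ : IrrCharacter G) : G → ℂ) g),
      ← Finset.add_sum_erase _ _ h1, if_pos rfl, if_pos rfl,
      Finset.sum_congr rfl fun ψ hψ => by rw [if_neg (Finset.ne_of_mem_erase hψ), if_neg (Finset.ne_of_mem_erase hψ)]]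
    rw [← Finset.add_sum_erase _ _ h1, h1'] at h3
    simp only [coe_irrOne] at h3
    push_cast at h3 ⊢
    linear_combination -h3

/-- `p = 5`, `|N : C| = 2`. -/
theorem exists_two [Fact (Nat.Prime 5)] (S : Setup 5 G) (he : S.C.relIndex S.N = 2) :
    ∃ (χ : IrrCharacter G) (δ ε : ℤ) (e : ℕ), χ ≠ irrOne G ∧ (δ = 1 ∨ δ = -1) ∧ (ε = 1 ∨ ε = -1) ∧
      (∀ g, 5 ∣ orderOf g → (χ : G → ℂ) g = δ) ∧ 1 + δ * charDegree (χ : G → ℂ) = ε * e ∧
      charDegree (χ : G → ℂ) ∣ S.C.index ∧ e ∣ S.C.index ∧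
      ∀ (φ : IrrCharacter G) (c : ℂ), φ ≠ irrOne G → c ≠ 0 →
        (∀ g, 5 ∣ orderOf g → (φ : G → ℂ) g = c) → φ = χ := by
  classical
  obtain ⟨M, hM⟩ := Blk.exists_isPModular (Fact.out : Nat.Prime 5)
  obtain ⟨D, h1, h1'⟩ := S.exists_pData hM
  obtain ⟨χ, hχ, hne⟩ := Finset.exists_mem_ne (s := D.X) (by rw [D.card_X', he]; norm_num) (irrOne G)
  have hX := D.X_eq_pair he h1 hχ hne.symm
  have hY : ∀ i, D.Y i ≠ irrOne G := fun i h => D.Y_notMem i (h ▸ h1)
  refine ⟨χ, D.δ χ, D.ε, charDegree (D.Y 1 : G → ℂ), hne, D.δ_sign _ hχ, D.ε_sign,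
    fun g hg => D.X_singular hχ hg, ?_, D.X_dvd hχ, D.Y_dvd 1, fun φ c hφ hc h => ?_⟩
  · rw [D.degree_rel 1, hX, Finset.sum_pair hne.symm, h1', charDegree_irrOne']
    simp
  · by_contra hφχ
    have h2 : classInner (S.v (irrOne S.C) (1 : (ZMod 5)ˣ)) φ = (starRingEnd ℂ) c := by
      rw [classInner_congr_right (ψ' := c • (irrOne G : G → ℂ)) fun g hg => by
        rw [h g (by_contra fun h3 => hg (S.v_of_regular _ _ h3))]; simp, classInner_smul_right,
        Setup.classInner_v_one D.triv, if_pos rfl, mul_one]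
    rw [D.v_eq, hX, Finset.sum_pair hne.symm, classInner_sub_left, classInner_add_left, classInner_smul_left,
      classInner_smul_left, classInner_smul_left, classInner_irr, classInner_irr, classInner_irr,
      if_neg hφ.symm, if_neg (Ne.symm hφχ)] at h2
    have h3 : D.Y 1 = φ := by
      by_contra h3
      rw [if_neg h3] at h2
      exact hc ((starRingEnd ℂ).injective (by rw [← h2]; simp))
    obtain ⟨j, hj⟩ := D.exists_Y_ne (t := 2) (by rw [he]) le_rfl
    have h4 := D.classInner_Y_eq h hY 1 j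
    rw [classInner_irr, classInner_irr, if_pos h3.symm, if_neg (h3 ▸ hj)] at h4
    exact one_ne_zero h4

namespace PB

variable {S : Setup p G} (D : PB S n)

theorem d_pos (i : Fin n) : 0 < D.d i := (D.χ i).2.charDegree_pos

theorem δ_sq' (i : Fin n) : (D.δ i : ℂ) * D.δ i = 1 := by exact_mod_cast D.δ_sq i

theorem d_dvd (i : Fin n) : D.d i ∣ S.C.index := by
  have h1 := (D.χ i).2.isIntegral_centralChar S.x
  rw [centralChar, ← S.C_eq, D.sing i _ (by rw [S.hx]), ← (D.χ i).2.coe_charDegree] at h1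
  refine integral_nat_dvd_of_eq_mul (h1.mul (integral_intCast (D.δ i))) ?_
  have h0 : (charDegree (D.χ i : G → ℂ) : ℂ) ≠ 0 := by exact_mod_cast (D.d_pos i).ne'
  have h2 := D.δ_sq' i
  rw [d]
  field_simp
  rw [pow_two, h2, mul_one]

theorem sum_A : 1 + ∑ i, D.A i = 0 := by
  have := D.reg 1 (by simpa using (Fact.out : p.Prime).ne_one)
  simp only [← (D.χ _).2.coe_charDegree] at this
  simp only [A, d]
  exact_mod_cast this

theorem A_modEq (i : Fin n) : D.A i ≡ 1 [ZMOD p] := by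
  have := cong_C S (D.χ i).2.isCharacter (D.sing i) (one_mem _)
    (by simpa using (Fact.out : p.Prime).ne_one) (m := D.d i) (by
      rw [← (D.χ i).2.coe_charDegree]; rfl)
  rw [← D.δ_sq i]
  exact this.mul_left _

theorem theta (g : G) [Decidable (p ∣ orderOf g)] :
    1 + ∑ i, (D.δ i : ℂ) * (D.χ i : G → ℂ) g = if p ∣ orderOf g then (p : ℂ) else 0 := by
  split_ifs with h
  · simp only [D.sing _ g h, D.δ_sq']
    rw [← D.hn]
    simp [add_comm]
  · exact D.reg g h

theorem mem {φ : IrrCharacter G} (h1 : φ ≠ irrOne G) {c : ℂ} (hc : c ≠ 0)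
    (h : ∀ g, p ∣ orderOf g → (φ : G → ℂ) g = c) : ∃ i, φ = D.χ i ∧ c = D.δ i := by
  classical
  obtain ⟨i, hi⟩ : ∃ i, φ = D.χ i := by
    by_contra! h2
    have h3 : classInner ((irrOne G : G → ℂ) + ∑ i, (D.δ i : ℂ) • (D.χ i : G → ℂ)) φ =
        classInner ((irrOne G : G → ℂ) + ∑ i, (D.δ i : ℂ) • (D.χ i : G → ℂ)) (c • (irrOne G : G → ℂ)) :=
      classInner_congr_right fun g hg => by
        rw [h g (by_contra fun h3 => hg (by simpa [Finset.sum_apply] using D.reg g h3))]; simp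
    simp only [classInner_smul_right, classInner_add_left, classInner_sum_left, classInner_smul_left,
      classInner_irr, if_neg h1.symm, if_neg (h2 _).symm, if_neg (D.ne_one _)] at h3
    exact hc ((starRingEnd ℂ).injective (by simpa using h3.symm))
  exact ⟨i, hi, by rw [← h S.x (by rw [S.hx]), hi, D.sing i _ (by rw [S.hx])]⟩

/-- Galois conjugates stay in the family. -/
theorem galois (σ : ℂ →+* ℂ) (i : Fin n) :
    ∃ j, D.A j = D.A i ∧ ∀ g, (D.χ j : G → ℂ) g = σ ((D.χ i : G → ℂ) g) := by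
  obtain ⟨j, h1, h2⟩ := D.mem (φ := ⟨_, (D.χ i).2.galois σ⟩) (c := D.δ i)
    (fun h => D.ne_one i (Subtype.ext (funext fun g => σ.injective
      ((congrFun (congrArg Subtype.val h) g).trans (map_one σ).symm))))
    (left_ne_zero_of_mul_eq_one (D.δ_sq' i)) fun g hg => by
      change σ _ = _
      rw [D.sing i g hg, map_intCast]
  refine ⟨j, ?_, fun g => by rw [← h1]⟩
  rw [A, A, d, d, ← h1, (D.χ i).2.isCharacter.charDegree_galois σ, Int.cast_injective h2]

theorem exists_int {i : Fin n} (h : ∀ j, D.A j = D.A i → j = i) (g : G) :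
    ∃ m : ℤ, (D.χ i : G → ℂ) g = m := by
  have hχ := (D.χ i).2.isCharacter.isGeneralizedCharacter
  obtain ⟨m, hm⟩ := hχ.exists_int_of_apply_pow_eq (g := g) fun k hk => by
    obtain ⟨σ, hσ⟩ := galois_exists_aut_char (G := G) hk
    obtain ⟨j, h1, h2⟩ := D.galois (σ : ℂ →+* ℂ) i
    obtain rfl := h j h1
    exact (hσ _ hχ g).symm.trans (h2 g).symm
  exact ⟨m, hm.symm⟩

theorem exists_val (h : Function.Injective D.A) (g : G) : ∃ a, D.Val g a := by
  choose m hm using fun i => D.exists_int (i := i) (fun _ e => h e) g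
  exact ⟨fun i => D.δ i * m i, fun i => by rw [hm, Int.cast_mul]⟩

theorem exists_val_inv {t : G} (ht : t * t = 1) : ∃ a, D.Val t a := by
  choose m _ hm using fun i => (D.χ i).2.isCharacter.exists_int_of_mul_self_eq_one ht
  exact ⟨fun i => D.δ i * (D.d i - 2 * m i), fun i => by rw [hm]; push_cast; rfl⟩

theorem Val.B_eq {g h : G} {a b : Fin n → ℤ} (ha : D.Val g a) (hb : D.Val h b) :
    D.B g h = (Bq D.A a b : ℚ) := by
  rw [B, Bq]
  push_cast
  refine congrArg (1 + ·) (Finset.sum_congr rfl fun i _ => ?_)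
  have h0 : (D.d i : ℂ) ≠ 0 := by exact_mod_cast (D.d_pos i).ne'
  have h1 := left_ne_zero_of_mul_eq_one (D.δ_sq' i)
  rw [← ha i, ← hb i, A]
  push_cast
  field_simp

end PB

end Cfsg.Agent.B15
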