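import Mathlib
import Cfsg.Agent.B15.Basic
import Cfsg.Agent.Blk.BlockOrth
import Cfsg.Agent.Blk.OneSelf

set_option autoImplicit false
set_option linter.unusedSectionVars false

namespace Cfsg.Agent.B15

open Cfsg Cfsg.Agent.Ch Cfsg.Agent.Blk.One Subgroup Finset

namespace Count

theorem card_dvd_of_free {H Ω : Type*} [Group H] [MulAction H Ω] {S : Subgroup H} {T : Finset Ω}
    (hT : ∀ g ∈ S, ∀ c ∈ T, g • c ∈ T) (hf : ∀ g ∈ S, ∀ c ∈ T, g • c = c → g = 1) : Nat.card S ∣ #T := by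
  let M : SubMulAction S Ω := { carrier := T, smul_mem' := fun g c hc => hT g g.2 c hc }
  have e := MulAction.selfEquivOrbitsQuotientProd (G := S) (X := M) fun P => by
    rw [eq_bot_iff]
    intro g hg
    exact Subtype.ext (hf g g.2 P P.2 (congrArg Subtype.val hg))
  have h1 : Nat.card M = #T := (Nat.card_coe_set_eq (T : Set Ω)).trans (Set.ncard_coe_finset T)
  rw [← h1, Nat.card_congr e, Nat.card_prod]
  exact dvd_mul_left _ _

/-- Simultaneous left and independent right multiplication. -/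
@[reducible] def act (G : Type*) [Group G] : MulAction (G × G × G) (G × G) where
  smul u y := (u.1 * y.1 * u.2.1⁻¹, u.1 * y.2 * u.2.2⁻¹)
  one_smul y := Prod.ext (show 1 * y.1 * 1⁻¹ = y.1 by simp) (show 1 * y.2 * 1⁻¹ = y.2 by simp)
  mul_smul u v y := Prod.ext
    (show u.1 * v.1 * y.1 * (u.2.1 * v.2.1)⁻¹ = u.1 * (v.1 * y.1 * v.2.1⁻¹) * u.2.1⁻¹ by group)
    (show u.1 * v.1 * y.2 * (u.2.2 * v.2.2)⁻¹ = u.1 * (v.1 * y.2 * v.2.2⁻¹) * u.2.2⁻¹ by group)

variable {G : Type*} [Group G] [Fintype G] {p n : ℕ} [Fact p.Prime]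

/-- The product of the two conjugates. -/
def pd (g h : G) (y : G × G) : G := y.1 * g * y.1⁻¹ * (y.2 * h * y.2⁻¹)

theorem pd_mul (g h k : G) (y : G × G) : pd g h (k * y.1, k * y.2) = k * pd g h y * k⁻¹ := by
  simp only [pd]; group

open Classical in
/-- The pairs whose product has `p`-part corresponding to `x`. -/
noncomputable def fb (S : Setup p G) (g h : G) : Finset (G × G) :=
  {y | pd g h y ^ (zpowers S.x).index = S.x}

theorem mem_fb {S : Setup p G} {g h : G} {y : G × G} : y ∈ fb S g h ↔ pd g h y ^ (zpowers S.x).index = S.x := by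
  simp [fb]

theorem orderOf_pow_index (S : Setup p G) {y : G} (hy : p ∣ orderOf y) : orderOf (y ^ (zpowers S.x).index) = p := by
  refine orderOf_eq_prime (by rw [← pow_mul, mul_comm, ← S.card_eq, pow_card_eq_one']) fun h => ?_
  exact S.hidx (hy.trans (orderOf_dvd_of_pow_eq_one h))

theorem dvd_of_mem_fb {S : Setup p G} {y : G} (hy : y ^ (zpowers S.x).index = S.x) : p ∣ orderOf y := by
  have := orderOf_pow_dvd (x := y) (zpowers S.x).index
  rwa [hy, S.hx] at this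

theorem isConj_x {S : Setup p G} (D : PB S n) {y : G} (hy : orderOf y = p) : IsConj S.x y := by
  obtain ⟨i, hi⟩ := S.exists_isConj_x_pow hy
  have h1 : S.al.range = ⊤ := by
    refine eq_top_of_card_eq _ ?_
    rw [S.card_range_al, D.he, Nat.card_eq_fintype_card, ZMod.card_units, ← D.hn, Nat.add_sub_cancel]
  have h2 := (S.isConj_x_pow_iff 1 i).2 (h1 ▸ mem_top _)
  rw [Units.val_one, ZMod.val_one, pow_one] at h2
  exact h2.trans hi

open Classical in
theorem B_card {S : Setup p G} (D : PB S n) (g h : G) :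
    D.B g h * Nat.card G = p * #{b : G | p ∣ orderOf (b * h * b⁻¹ * g)} := by
  have h1 : ∀ i, ∑ b : G, (D.χ i : G → ℂ) (b * h * b⁻¹ * g) =
      Nat.card G * ((D.χ i : G → ℂ) g * (D.χ i : G → ℂ) h) / D.d i := fun i => by
    have := Blk.irr_mul_sum_conj (D.χ i) g h
    have h0 : (D.d i : ℂ) ≠ 0 := Nat.cast_ne_zero.2 (D.d_pos i).ne'
    rw [eq_div_iff h0, ← this, mul_comm, PB.d, (D.χ i).2.coe_charDegree]
  have h2 : ∑ b : G, (1 + ∑ i, (D.δ i : ℂ) * (D.χ i : G → ℂ) (b * h * b⁻¹ * g)) =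
      p * #{b : G | p ∣ orderOf (b * h * b⁻¹ * g)} := by
    simp only [D.theta]
    rw [← sum_filter, sum_const, nsmul_eq_mul, mul_comm]
  rw [← h2, sum_add_distrib, sum_comm]
  simp only [← mul_sum, h1]
  rw [PB.B, add_mul, sum_mul, sum_const, card_univ, nsmul_eq_mul, Nat.card_eq_fintype_card]
  congr 1
  · ring
  · exact sum_congr rfl fun i _ => by ring

theorem B_fb {S : Setup p G} (D : PB S n) (g h : G) :
    D.B g h * (Nat.card G : ℂ) ^ 2 = (p * S.C.index * #(fb S g h) : ℕ) := by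
  classical
  set U : Finset (G × G) := {y | p ∣ orderOf (pd g h y)} with hU
  have h1 : #U = Nat.card G * #{b : G | p ∣ orderOf (b * h * b⁻¹ * g)} := by
    rw [Nat.card_eq_fintype_card, ← card_univ, ← card_product]
    refine (card_bij (fun y _ => (y.1, y.1 * y.2)) (fun y hy => ?_) (fun y _ z _ e => ?_) fun y hy => ?_).symm
    · have : pd g h (y.1, y.1 * y.2) = (y.1 * g) * (y.2 * h * y.2⁻¹ * g) * (y.1 * g)⁻¹ := by simp only [pd]; group
      simp only [hU, mem_filter, mem_univ, true_and, mem_product] at hy ⊢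
      rwa [this, ← MulAut.conj_apply, MulEquiv.orderOf_eq]
    · obtain ⟨e1, e2⟩ := Prod.ext_iff.1 e
      exact Prod.ext e1 (mul_left_cancel (a := y.1) (e2.trans (by rw [← show y.1 = z.1 from e1])))
    · refine ⟨(y.1, y.1⁻¹ * y.2), ?_, by simp⟩
      have : y.1⁻¹ * y.2 * h * (y.1⁻¹ * y.2)⁻¹ * g = (y.1 * g)⁻¹ * pd g h y * (y.1 * g)⁻¹⁻¹ := by simp only [pd]; group
      simp only [hU, mem_filter, mem_univ, true_and, mem_product] at hy ⊢
      rwa [this, ← MulAut.conj_apply, MulEquiv.orderOf_eq]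
  have h2 : #(univ : Finset G) * #(fb S g h) = #U * Nat.card S.C := by
    refine card_mul_eq_card_mul (fun k y => pd g h (k * y.1, k * y.2) ^ (zpowers S.x).index = S.x)
      (fun k _ => ?_) fun y hy => ?_
    · refine card_bij (fun y _ => (k * y.1, k * y.2)) (fun y hy => mem_fb.2 (mem_filter.1 hy).2)
        (fun y _ z _ e => ?_) fun y hy => ⟨(k⁻¹ * y.1, k⁻¹ * y.2), ?_, by simp⟩
      · obtain ⟨e1, e2⟩ := Prod.ext_iff.1 e
        exact Prod.ext (mul_left_cancel e1) (mul_left_cancel e2)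
      · refine mem_filter.2 ⟨mem_filter.2 ⟨mem_univ _, ?_⟩, by simpa using mem_fb.1 hy⟩
        rw [pd_mul, ← MulAut.conj_apply, MulEquiv.orderOf_eq]
        exact dvd_of_mem_fb (mem_fb.1 hy)
    · obtain ⟨c, hc⟩ := isConj_iff.1 (isConj_x D (orderOf_pow_index S (mem_filter.1 hy).2))
      rw [Nat.card_eq_fintype_card, Fintype.card_subtype]
      refine card_bij (fun k _ => k * c) (fun k hk => ?_) (fun _ _ _ _ e => mul_right_cancel e)
        fun k hk => ⟨k * c⁻¹, ?_, by simp⟩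
      · have := (mem_filter.1 hk).2
        beta_reduce at this
        rw [pd_mul, conj_pow, ← hc] at this
        refine mem_filter.2 ⟨mem_univ _, (S.hC _).2 ?_⟩
        rw [← mul_inv_eq_iff_eq_mul, ← this]
        nth_rw 1 [this]
        group
      · refine mem_filter.2 ⟨mem_univ _, ?_⟩
        beta_reduce
        rw [pd_mul, conj_pow, ← hc]
        calc _ = k * S.x * k⁻¹ := by group
          _ = _ := by rw [(S.hC _).1 (mem_filter.1 hk).2, mul_inv_cancel_right]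
  rw [card_univ, ← Nat.card_eq_fintype_card, ← S.C.index_mul_card, mul_right_comm] at h2
  have h3 := Nat.eq_of_mul_eq_mul_right Nat.card_pos h2
  rw [pow_two, ← mul_assoc, B_card D, mul_assoc p, h3, h1]
  push_cast
  ring

open Classical in
/-- The projection of `C` onto `ZMod p`, extended by zero. -/
noncomputable def pj (S : Setup p G) (y : G) : ZMod p := if h : y ∈ S.C then S.pr ⟨y, h⟩ else 0

theorem pj_mul (S : Setup p G) {y z : G} (hy : y ∈ S.C) (hz : z ∈ S.C) : pj S (y * z) = pj S y + pj S z := by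
  rw [pj, pj, pj, dif_pos hy, dif_pos hz, dif_pos (mul_mem hy hz), ← S.pr_mul]; rfl

theorem pj_inv (S : Setup p G) {y : G} (hy : y ∈ S.C) : pj S y⁻¹ = -pj S y := by
  rw [pj, pj, dif_pos hy, dif_pos (inv_mem hy), ← S.pr_inv]; rfl

theorem pj_x (S : Setup p G) : pj S S.x = 1 := by
  rw [pj, dif_pos S.x_mem_C]; exact S.pr_xc

theorem pow_eq_x_iff (S : Setup p G) {y : G} (hy : y ∈ S.C) :
    y ^ (zpowers S.x).index = S.x ↔ ((zpowers S.x).index : ZMod p) * pj S y = 1 := by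
  rw [pj, dif_pos hy, ← S.pr_pow]
  refine ⟨fun h => ?_, fun h => ?_⟩
  · rw [← S.pr_xc]
    exact congrArg S.pr (Subtype.ext h)
  · have h1 : y ^ (zpowers S.x).index ∈ zpowers S.x := by
      refine S.mem_zpowers_of_mem_N (S.C_le_N (pow_mem hy _)) ?_
      have : orderOf (y ^ (zpowers S.x).index) ∣ p ^ 1 :=
        orderOf_dvd_of_pow_eq_one (by rw [pow_one, ← pow_mul, mul_comm, ← S.card_eq, pow_card_eq_one'])
      obtain ⟨k, -, hk⟩ := (Nat.dvd_prime_pow Fact.out).1 this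
      exact ⟨k, hk⟩
    have h2 := S.eq_xc_pow_of_mem (y := (⟨y, hy⟩ : S.C) ^ (zpowers S.x).index) h1
    rw [h, ZMod.val_one, pow_one] at h2
    exact congrArg Subtype.val h2

theorem fb_inv (S : Setup p G) (h2 : p ≠ 2) {t : G} (ht : t * t = 1) :
    ∃ j : ℕ, #(fb S t t) = p * (j * Nat.card (centralizer ({t} : Set G))) ^ 2 := by
  classical
  set J : Finset G := {a | a * t * a⁻¹ * S.x = S.x⁻¹ * (a * t * a⁻¹)} with hJ
  have mJ : ∀ {a}, a ∈ J ↔ a * t * a⁻¹ * S.x = S.x⁻¹ * (a * t * a⁻¹) := by simp [hJ]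
  have sq : ∀ a : G, a * t * a⁻¹ * (a * t * a⁻¹) = 1 := fun a => by
    rw [conj_mul, ht, mul_one, mul_inv_cancel]
  have si : ∀ a : G, (a * t * a⁻¹)⁻¹ = a * t * a⁻¹ := fun a => inv_eq_of_mul_eq_one_right (sq a)
  have hC : ∀ {a b}, a ∈ J → b ∈ J → a * t * a⁻¹ * (b * t * b⁻¹) ∈ S.C := fun {a b} ha hb => by
    have h1 : a * t * a⁻¹ * S.x⁻¹ = S.x * (a * t * a⁻¹) := by
      rw [mul_inv_eq_iff_eq_mul, mul_assoc S.x, mJ.1 ha, mul_inv_cancel_left]
    rw [S.hC, mul_assoc, mJ.1 hb, ← mul_assoc, h1, mul_assoc]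
  have hF : ∀ y ∈ fb S t t, y.1 ∈ J ∧ y.2 ∈ J := fun y hy => by
    have key : ∀ s : G, s * pd t t y * s⁻¹ = (pd t t y)⁻¹ → s * S.x = S.x⁻¹ * s := fun s hs => by
      rw [← mul_inv_eq_iff_eq_mul, ← mem_fb.1 hy, ← conj_pow, hs, inv_pow]
    refine ⟨mJ.2 (key _ ?_), mJ.2 (key _ ?_)⟩ <;> rw [pd, mul_inv_rev (y.1 * t * y.1⁻¹), si, si]
    · rw [← mul_assoc (y.1 * t * y.1⁻¹) (y.1 * t * y.1⁻¹), sq, one_mul]
    · rw [mul_assoc, mul_assoc (y.1 * t * y.1⁻¹), sq, mul_one]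
  rcases J.eq_empty_or_nonempty with h | ⟨a0, h0⟩
  · refine ⟨0, ?_⟩
    rw [zero_mul, zero_pow two_ne_zero, mul_zero, card_eq_zero, eq_empty_iff_forall_notMem]
    exact fun y hy => notMem_empty _ (h ▸ (hF y hy).1)
  set f : G → ZMod p := fun a => pj S (a * t * a⁻¹ * (a0 * t * a0⁻¹)) with hf
  have hd : ∀ {a b}, a ∈ J → b ∈ J → pj S (a * t * a⁻¹ * (b * t * b⁻¹)) = f a - f b := fun {a b} ha hb => by
    rw [sub_eq_add_neg, hf, ← pj_inv S (hC hb h0), ← pj_mul S (hC ha h0) (inv_mem (hC hb h0)), mul_inv_rev (b * t * b⁻¹),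
      si, si, mul_assoc (a * t * a⁻¹), ← mul_assoc (a0 * t * a0⁻¹), sq, one_mul]
  have hx : ∀ {a}, a ∈ J → S.x * a * t * (S.x * a)⁻¹ = S.x * S.x * (a * t * a⁻¹) := fun {a} ha => by
    calc _ = S.x * S.x * (S.x⁻¹ * (a * t * a⁻¹)) * S.x⁻¹ := by group
      _ = S.x * S.x * (a * t * a⁻¹ * S.x) * S.x⁻¹ := by rw [mJ.1 ha]
      _ = _ := by group
  have N2 : ∀ v, #{a ∈ J | f a = v} ≤ #{a ∈ J | f a = v + 2} := fun v => by
    refine card_le_card_of_injOn (fun a => S.x * a) (fun a ha => ?_) fun a _ b _ e => mul_left_cancel e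
    obtain ⟨h1, h3⟩ := mem_filter.1 ha
    refine mem_filter.2 ⟨mJ.2 ?_, ?_⟩
    · rw [hx h1, mul_assoc, mJ.1 h1]; group
    · rw [← h3]
      simp only [hf]
      rw [hx h1, mul_assoc, pj_mul S (mul_mem S.x_mem_C S.x_mem_C) (hC h1 h0), pj_mul S S.x_mem_C S.x_mem_C, pj_x]
      ring
  have Nk : ∀ v (k : ℕ), #{a ∈ J | f a = v} ≤ #{a ∈ J | f a = v + 2 * k} := fun v k => by
    induction k with
    | zero => simp
    | succ k ih => exact ih.trans ((N2 _).trans_eq (by push_cast; rw [mul_add, mul_one, add_assoc]))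
  have Nl : ∀ v w, #{a ∈ J | f a = v} ≤ #{a ∈ J | f a = w} := fun v w => by
    have h3 : (2 : ZMod p) ≠ 0 := fun h => h2 ((Nat.prime_dvd_prime_iff_eq Fact.out Nat.prime_two).1
      ((ZMod.natCast_eq_zero_iff 2 p).1 (by exact_mod_cast h)))
    have := Nk v ((w - v) / 2).val
    rwa [ZMod.natCast_zmod_val, mul_div_cancel₀ _ h3, add_sub_cancel] at this
  have N0 : ∀ v, #{a ∈ J | f a = v} = #{a ∈ J | f a = 0} := fun v => le_antisymm (Nl _ _) (Nl _ _)
  obtain ⟨j, hj⟩ : Nat.card (centralizer ({t} : Set G)).op ∣ #{a ∈ J | f a = 0} := by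
    refine card_dvd_of_free (fun c hc a ha => ?_) fun c hc a ha e => ?_
    · have e : a * c.unop * t * (a * c.unop)⁻¹ = a * t * a⁻¹ := by
        rw [mul_assoc a, mem_centralizer_singleton_iff.1 (mem_op.1 hc)]; group
      change a * c.unop ∈ _
      simp only [mem_filter, mJ, hf] at ha ⊢
      rwa [e]
    · exact MulOpposite.unop_injective (mul_eq_left.1 e)
  rw [← Nat.card_congr (centralizer ({t} : Set G)).equivOp] at hj
  have hm : ((zpowers S.x).index : ZMod p) ≠ 0 := fun h => S.hidx ((ZMod.natCast_eq_zero_iff _ p).1 h)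
  have c1 : #J = p * #{a ∈ J | f a = 0} := by
    rw [card_eq_sum_card_fiberwise (f := f) (t := univ) fun _ _ => mem_univ _, sum_congr rfl fun v _ => N0 v,
      sum_const, card_univ, ZMod.card, smul_eq_mul]
  have c2 : #(fb S t t) = #J * #{a ∈ J | f a = 0} := by
    rw [card_eq_sum_card_fiberwise (f := Prod.snd) (t := J) fun y hy => (hF y hy).2, ← smul_eq_mul, ← sum_const]
    refine sum_congr rfl fun b hb => ?_
    rw [← N0 (((zpowers S.x).index : ZMod p)⁻¹ + f b)]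
    refine card_bij (fun y _ => y.1) (fun y hy => ?_) (fun y hy z hz e => ?_) fun a ha => ⟨(a, b), ?_, rfl⟩
    · obtain ⟨h1, rfl⟩ := mem_filter.1 hy
      obtain ⟨h3, h4⟩ := hF y h1
      have := (pow_eq_x_iff S (hC h3 h4)).1 (mem_fb.1 h1)
      rw [hd h3 h4] at this
      exact mem_filter.2 ⟨h3, by rw [← eq_inv_of_mul_eq_one_right this, sub_add_cancel]⟩
    · exact Prod.ext e ((mem_filter.1 hy).2.trans (mem_filter.1 hz).2.symm)
    · obtain ⟨h1, h3⟩ := mem_filter.1 ha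
      refine mem_filter.2 ⟨mem_fb.2 ((pow_eq_x_iff S (hC h1 hb)).2 ?_), rfl⟩
      rw [hd h1 hb, h3, add_sub_cancel_right, mul_inv_cancel₀ hm]
  exact ⟨j, by rw [c2, c1, hj]; ring⟩

end Count

open Count

variable {G : Type*} [Group G] [Fintype G] {p n : ℕ} [Fact p.Prime]

namespace PB

variable {S : Setup p G} (D : PB S n)

theorem B_range (g h : G) : ∃ m : ℕ, m ≤ Nat.card G ∧ D.B g h * Nat.card G = p * m := by
  classical
  refine ⟨_, ?_, B_card D g h⟩
  rw [Nat.card_eq_fintype_card]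
  exact card_le_univ _

theorem B_count {g : G} (hg : ¬ p ∣ Nat.card (centralizer ({g} : Set G))) (h : G) :
    ∃ m : ℕ, D.B g h * (Nat.card G : ℂ) ^ 2 = (p ^ 2 * m * Nat.card (centralizer ({g} : Set G)) *
      Nat.card (centralizer ({h} : Set G)) * S.C.index : ℕ) := by
  letI := act G
  obtain ⟨m, hm⟩ := card_dvd_of_free (T := fb S g h)
    (S := (zpowers S.x).prod ((centralizer ({g} : Set G)).prod (centralizer ({h} : Set G))))
    (fun u hu y hy => by
      have e : pd g h (u • y) = u.1 * pd g h y * u.1⁻¹ := by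
        have h1 := mem_centralizer_singleton_iff.1 hu.2.1
        have h2 := mem_centralizer_singleton_iff.1 hu.2.2
        calc _ = u.1 * y.1 * (u.2.1⁻¹ * (g * u.2.1)) * y.1⁻¹ * y.2 * (u.2.2⁻¹ * (h * u.2.2)) * y.2⁻¹ * u.1⁻¹ := by
              change u.1 * y.1 * u.2.1⁻¹ * g * (u.1 * y.1 * u.2.1⁻¹)⁻¹ *
                (u.1 * y.2 * u.2.2⁻¹ * h * (u.1 * y.2 * u.2.2⁻¹)⁻¹) = _
              group
          _ = _ := by rw [← h1, ← h2, pd]; group
      rw [mem_fb, e, conj_pow, mem_fb.1 hy, (S.hC _).1 (S.zpowers_le_C hu.1), mul_inv_cancel_right])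
    (fun u hu y hy e => by
      have e1 : u.1 * y.1 * u.2.1⁻¹ = y.1 := congrArg Prod.fst e
      have e2 : u.1 * y.2 * u.2.2⁻¹ = y.2 := congrArg Prod.snd e
      have h1 : u.1 = 1 := by
        by_contra h1
        have : u.2.1 = y.1⁻¹ * u.1 * y.1⁻¹⁻¹ := by rw [← mul_inv_eq_one, ← inv_mul_cancel y.1]; nth_rw 3 [← e1]; group
        refine hg ?_
        rw [← S.orderOf_of_mem hu.1 h1, ← MulEquiv.orderOf_eq (MulAut.conj y.1⁻¹), MulAut.conj_apply, ← this]
        exact orderOf_dvd_natCard _ hu.2.1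
      rw [h1, one_mul, mul_eq_left, inv_eq_one] at e1 e2
      exact Prod.ext h1 (Prod.ext e1 e2))
  refine ⟨m, ?_⟩
  rw [B_fb D, hm, Nat.card_congr (prodEquiv _ _).toEquiv, Nat.card_prod, Nat.card_congr (prodEquiv _ _).toEquiv,
    Nat.card_prod, S.card_zpowers]
  congr 1
  ring

theorem B_inv (h2 : p ≠ 2) {t : G} (ht : orderOf t = 2) :
    ∃ j : ℕ, D.B t t * (Nat.card G : ℂ) ^ 2 =
      ((p * j * Nat.card (centralizer ({t} : Set G))) ^ 2 * S.C.index : ℕ) := by
  obtain ⟨j, hj⟩ := fb_inv S h2 (t := t) (by rw [← pow_two, ← ht, pow_orderOf_eq_one])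
  refine ⟨j, ?_⟩
  rw [B_fb D, hj]
  congr 1
  ring

end PB

end Cfsg.Agent.B15
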