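import Mathlib
import Cfsg.Agent.B15.Count
import Cfsg.Agent.Blk.BlockOrth2
import Cfsg.Agent.Blk.SecondMain
import Cfsg.Agent.Blk.OneBT
import Cfsg.Agent.Blk.Cover
import Cfsg.Agent.Ch.SmallDegree

set_option autoImplicit false
set_option linter.unusedSectionVars false

namespace Cfsg.Agent.B15

open Cfsg Cfsg.Agent.Ch Cfsg.Agent.Blk.One Subgroup

variable {G : Type*} [Group G] [Fintype G] {p n : ℕ} [Fact p.Prime]

namespace PB

variable {S : Setup p G} (D : PB S n)

theorem Val.range {g h : G} {a b : Fin n → ℤ} (ha : D.Val g a) (hb : D.Val h b) :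
    0 ≤ Bq D.A a b ∧ Bq D.A a b ≤ p := by
  obtain ⟨m, hm, e⟩ := D.B_range g h
  rw [Val.B_eq D ha hb] at e
  have e' : Bq D.A a b * Nat.card G = p * m := by exact_mod_cast e
  have h0 : (0 : ℚ) < Nat.card G := by exact_mod_cast Nat.card_pos
  have h1 : (m : ℚ) ≤ Nat.card G := by exact_mod_cast hm
  refine ⟨nonneg_of_mul_nonneg_left (e' ▸ by positivity) h0, le_of_mul_le_mul_right ?_ h0⟩
  rw [e']
  exact mul_le_mul_of_nonneg_left h1 (Nat.cast_nonneg p)

theorem Val.apply {g : G} {a : Fin n → ℤ} (ha : D.Val g a) (i : Fin n) :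
    (D.χ i : G → ℂ) g = (D.δ i * a i : ℤ) := by
  have : (D.δ i : ℂ) * D.δ i = 1 := by exact_mod_cast D.δ_sq i
  rw [Int.cast_mul, ← ha i, ← mul_assoc, this, one_mul]

/-- the central character at an element with integral value -/
theorem exists_central_int (z : G) {i : Fin n} {m : ℤ} (hm : (D.χ i : G → ℂ) z = m) :
    ∃ c : ℤ, centralChar (D.χ i : G → ℂ) z = c ∧ (centralizer ({z} : Set G)).index * m = D.d i * c := by
  have h0 : (D.d i : ℂ) ≠ 0 := Nat.cast_ne_zero.2 (D.d_pos i).ne'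
  have e : centralChar (D.χ i : G → ℂ) z = (((centralizer ({z} : Set G)).index * m / D.d i : ℚ) : ℂ) := by
    rw [centralChar, hm, ← (D.χ i).2.coe_charDegree]
    push_cast
    rfl
  obtain ⟨c, hc⟩ := integral_exists_int_of_rat (e ▸ (D.χ i).2.isIntegral_centralChar z)
  refine ⟨c, by rw [e, ← hc, Rat.cast_intCast], ?_⟩
  rw [eq_div_iff (by exact_mod_cast h0)] at hc
  rw [mul_comm (D.d i : ℤ)]
  exact_mod_cast hc.symm

/-- the generalized character `theta` -/
noncomputable def th : G → ℂ := (irrOne G : G → ℂ) + ∑ i, (D.δ i : ℂ) • (D.χ i : G → ℂ)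

theorem th_eq_zero {g : G} (hg : ¬ p ∣ orderOf g) : D.th g = 0 := by
  rw [← D.reg g hg, th, Pi.add_apply, Finset.sum_apply]
  rfl

open Classical in
theorem blockPart_th (U : Set (IrrCharacter G)) : blockPart U D.th =
    (if irrOne G ∈ U then (irrOne G : G → ℂ) else 0) + ∑ i with D.χ i ∈ U, (D.δ i : ℂ) • (D.χ i : G → ℂ) := by
  rw [th, Blk.blockPart_add, Blk.blockPart_sum, Blk.blockPart_irr, Finset.sum_filter]
  congr 1
  refine Finset.sum_congr rfl fun i _ => ?_
  rw [Blk.blockPart_smul, Blk.blockPart_irr]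
  split_ifs <;> simp

variable [IsSimpleGroup G] (hG : ¬ IsMulCommutative G) {r : ℕ} (hr : r.Prime) (hrp : r ≠ p)
include hG hr hrp

/-- a character of `r`-power degree vanishes at an `r`-central element -/
theorem zero_of_pure {z : G} (hz : z ≠ 1) (hc : ¬ r ∣ (centralizer ({z} : Set G)).index)
    {i : Fin n} {k : ℕ} (hi : D.d i = r ^ k) : (D.χ i : G → ℂ) z = 0 := by
  refine ((D.χ i).2.eq_zero_or_mem_charCenter_of_coprime ?_).resolve_right fun h0 => ?_
  · exact (show charDegree _ = r ^ k from hi) ▸ Nat.Coprime.pow_left k ((Nat.Prime.coprime_iff_not_dvd hr).2 hc)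
  · have h := (D.χ i).2.isCharacter.charCenter_le_center (ker_bot (D.ne_one i)) h0
    rcases IsSimpleGroup.eq_bot_or_eq_top_of_normal (center G) inferInstance with e | e
    · exact hz (mem_bot.1 (e ▸ h))
    · exact hG ⟨⟨fun a b => mem_center_iff.1 (e ▸ mem_top b) a⟩⟩

theorem not_dvd_cent {z : G} (hz : orderOf z = r) (hc : ¬ r ∣ (centralizer ({z} : Set G)).index)
    {i : Fin n} {k : ℕ} (hi : D.d i = r ^ k) : ¬ p ∣ Nat.card (centralizer ({z} : Set G)) := fun h => by
  have hp : p.Prime := Fact.out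
  obtain ⟨y, hy⟩ := exists_prime_orderOf_dvd_card' p h
  rw [← orderOf_coe] at hy
  obtain ⟨j, hj⟩ := S.exists_isConj_x_pow hy
  obtain ⟨c, hc'⟩ := isConj_iff.1 hj
  have h1 : S.x ^ (j : ZMod p).val ≠ 1 := fun e => hp.one_lt.ne' (by
    rw [← hy, ← hc', e, mul_one, mul_inv_cancel, orderOf_one])
  have h2 : c⁻¹ * z * c⁻¹⁻¹ ∈ S.C := S.mem_C_of_commute (pow_mem (mem_zpowers _) _) h1 (by
    have := mem_centralizer_singleton_iff.1 y.2
    calc _ = c⁻¹ * (z * (c * S.x ^ (j : ZMod p).val * c⁻¹)) * c := by group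
      _ = _ := by rw [hc', ← this, ← hc']; group)
  have h3 := cong_C S (D.χ i).2.isCharacter (D.sing i) h2 (m := 0) (by
    rw [← MulAut.conj_apply, MulEquiv.orderOf_eq, hz, Nat.prime_dvd_prime_iff_eq hp hr]
    exact hrp.symm) (by
    rw [(D.χ i).2.isCharacter.isClassFunction z c⁻¹, Int.cast_zero]
    exact D.zero_of_pure hG hr hrp (fun e => hr.one_lt.ne' (by rw [← hz, e, orderOf_one])) hc hi)
  have h4 := Int.natCast_dvd.1 h3.dvd
  rcases D.sign i with e | e <;> rw [e] at h4 <;> exact hp.one_lt.ne' (Nat.dvd_one.1 (by simpa using h4))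

/-- one integral value is divisible by the `r`-part of the degree -/
theorem pow_dvd_val {z : G} (hc : ¬ r ∣ (centralizer ({z} : Set G)).index) {i : Fin n} {k : ℕ}
    (hk : r ^ k ∣ D.d i) {m : ℤ} (hm : (D.χ i : G → ℂ) z = m) : (r : ℤ) ^ k ∣ m := by
  obtain ⟨c, -, e⟩ := D.exists_central_int z hm
  refine IsCoprime.dvd_of_dvd_mul_left (y := ((centralizer ({z} : Set G)).index : ℤ)) ?_
    (e ▸ dvd_mul_of_dvd_left (show (r : ℤ) ^ k ∣ D.d i by exact_mod_cast hk) c)
  exact (Nat.isCoprime_iff_coprime.2 ((Nat.Prime.coprime_iff_not_dvd hr).2 hc)).pow_left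

theorem Val.num {z : G} (hz : orderOf z = r) (hc : ¬ r ∣ (centralizer ({z} : Set G)).index)
    {i : Fin n} {k : ℕ} (hi : D.d i = r ^ k) {a : Fin n → ℤ} (ha : D.Val z a) :
    Num p r D.A a := by
  have z1 : z ≠ 1 := fun e => hr.one_lt.ne' (by rw [← hz, e, orderOf_one])
  have hd : ∀ {j l}, (r : ℤ) ^ l ∣ D.A j → r ^ l ∣ D.d j := fun {j l} h => by
    rw [← D.natAbs_A, ← Int.natCast_dvd]
    exact_mod_cast h
  refine ⟨?_, fun j => ?_, fun j l h => ?_, fun j l h => ?_, (Val.range D ha ha).1, (Val.range D ha ha).2,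
    fun j l h => ?_⟩
  · have := D.reg z (by rw [hz, Nat.prime_dvd_prime_iff_eq Fact.out hr]; exact hrp.symm)
    simp only [ha _] at this
    exact_mod_cast this
  · have := abs_lt hG (D.ne_one j) z1 (Val.apply D ha j)
    rw [D.abs_A]
    rcases D.sign j with e | e <;> simpa [e, d] using this
  · have := D.pow_dvd_val hG hr hrp hc (hd h) (Val.apply D ha j)
    rcases D.sign j with e | e <;> simpa [e] using this
  · rw [D.abs_A] at h
    have := ha j
    rw [D.zero_of_pure hG hr hrp z1 hc (k := l) (by exact_mod_cast h), mul_zero] at this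
    exact_mod_cast this.symm
  · obtain ⟨m, e⟩ := D.B_count (D.not_dvd_cent hG hr hrp hz hc hi) z
    obtain ⟨u, hu⟩ := (hd h).trans (D.d_dvd j)
    refine ⟨(centralizer ({z} : Set G)).index ^ 2, p ^ 2 * m * u,
      ((Nat.Prime.coprime_iff_not_dvd hr).2 hc).symm.pow_left 2, ?_⟩
    rw [Val.B_eq D ha ha, hu, ← (centralizer ({z} : Set G)).index_mul_card] at e
    have h0 : (Nat.card (centralizer ({z} : Set G)) : ℚ) ^ 2 ≠ 0 := pow_ne_zero _ (Nat.cast_ne_zero.2 Nat.card_pos.ne')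
    have e' : Bq D.A a a * ((centralizer ({z} : Set G)).index * Nat.card (centralizer ({z} : Set G)) : ℕ) ^ 2 =
        (p ^ 2 * m * Nat.card (centralizer ({z} : Set G)) * Nat.card (centralizer ({z} : Set G)) * (r ^ l * u) : ℕ) := by
      exact_mod_cast e
    refine mul_right_cancel₀ h0 ?_
    push_cast at e' ⊢
    linear_combination e'

/-- block separation at an `r`-central element -/
theorem Val.sep {z : G} (hz : orderOf z = r) (hc : ¬ r ∣ (centralizer ({z} : Set G)).index)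
    {i : Fin n} {k : ℕ} (hi : D.d i = r ^ k) {a : Fin n → ℤ} (ha : D.Val z a) (ν : Fin n → ℕ)
    (hν : ∀ j, (r : ℤ) ^ ν j ∣ D.A j ∧ ¬ (r : ℤ) ^ (ν j + 1) ∣ D.A j) :
    ∑ j with (r : ℤ) ^ (ν j + 1) ∣ a j, a j = 0 := by
  classical
  obtain ⟨M, hM⟩ := Blk.exists_isPModular hr
  have := hM.2.1
  set U : Set (IrrCharacter G) := {φ | MemLocalIdeal M (centralChar (φ : G → ℂ) z)} with hU
  have h1 : Blk.IsBlockUnion M U := fun χ hχ ψ h => by
    have := MemLocalIdeal.sub hχ (h z)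
    rwa [sub_sub_cancel] at this
  have h2 : irrOne G ∉ U := fun h => hc ((hM.natCast_mem_iff _).1 (by simpa [hU, centralChar, coe_irrOne] using h))
  have hr' : Prime (r : ℤ) := Nat.prime_iff_prime_int.1 hr
  have h3 : ∀ j, D.χ j ∈ U ↔ (r : ℤ) ^ (ν j + 1) ∣ a j := fun j => by
    obtain ⟨c, e1, e2⟩ := D.exists_central_int z (Val.apply D ha j)
    obtain ⟨⟨u, hu⟩, hu'⟩ := hν j
    have e3 : (centralizer ({z} : Set G)).index * a j = r ^ ν j * (u * c) := by
      rw [← mul_assoc, ← hu, A]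
      linear_combination D.δ j * e2 - (centralizer ({z} : Set G)).index * a j * D.δ_sq j
    rw [hU, Set.mem_setOf_eq, e1, hM.intCast_mem_iff]
    refine ⟨fun h => IsCoprime.dvd_of_dvd_mul_left (y := ((centralizer ({z} : Set G)).index : ℤ))
      (Nat.isCoprime_iff_coprime.2 ((Nat.Prime.coprime_iff_not_dvd hr).2 hc)).pow_left ?_, fun h => ?_⟩
    · rw [e3, pow_succ]
      exact mul_dvd_mul_left _ (h.mul_left u)
    · have h4 := h.mul_left (centralizer ({z} : Set G)).index
      rw [e3, pow_succ, mul_dvd_mul_iff_left (pow_ne_zero _ hr'.ne_zero)] at h4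
      exact (hr'.dvd_or_dvd h4).resolve_left fun h5 => hu' (by rw [hu, pow_succ]; exact mul_dvd_mul_left _ h5)
  have h4 := Blk.blockPart_eq_zero_of_section hM (Blk.Om.isBlockUnion_iff_blockCoeff.1 h1) (ϑ := D.th) (u := z) (z := z)
    ⟨1, mul_one z, Commute.one_right z, ⟨1, by rw [hz, pow_one]⟩, by rw [orderOf_one]; exact hr.not_dvd_one⟩
    fun g w hw hzw => D.th_eq_zero fun hg => D.not_dvd_cent hG hr hrp hz hc hi (by
      obtain ⟨c, rfl⟩ := isConj_iff.1 hzw
      obtain ⟨y, rfl, hy, -⟩ := hw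
      rw [← MulEquiv.orderOf_eq (MulAut.conj c⁻¹)] at hg
      refine hg.trans (orderOf_dvd_natCard _ (mem_centralizer_singleton_iff.2 ?_))
      rw [MulAut.conj_apply]
      calc _ = c⁻¹ * (c * z * c⁻¹) * (y * (c * z * c⁻¹)) * c := by group
        _ = _ := by rw [← hy.eq]; group)
  rw [D.blockPart_th, if_neg h2, zero_add, Finset.sum_apply] at h4
  simp only [h3, Pi.smul_apply, smul_eq_mul, ha _] at h4
  exact_mod_cast h4

/-- Brauer-Tuan congruence -/
theorem bt (hS : S.C = zpowers S.x) {a : ℕ} (ha : r ^ a ∣ Nat.card G) :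
    ∃ s : Finset (Fin n), (∀ i ∈ s, ∀ k : ℕ, D.d i ≠ r ^ k) ∧
      (r : ℤ) ^ a ∣ 1 + ∑ i ∈ s, D.A i := by
  classical
  rcases Nat.eq_zero_or_pos a with rfl | a0
  · exact ⟨∅, by simp, by simp⟩
  haveI := Fact.mk hr
  obtain ⟨M, hM⟩ := Blk.exists_isPModular hr
  have := hM.2.1
  have hc : commutator G = ⊤ := (IsSimpleGroup.eq_bot_or_eq_top_of_normal _ inferInstance).resolve_left fun h =>
    hG ⟨⟨fun a b => commutatorElement_eq_one_iff_mul_comm.1
      (mem_bot.1 (h ▸ commutator_mem_commutator (mem_top a) (mem_top b)))⟩⟩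
  refine ⟨Finset.univ.filter fun i => D.χ i ∈ principalBlock M G, fun i hi k hk => notMem_principal_of_pow hc hM
    ((dvd_pow_self r a0.ne').trans ha) (D.ne_one i) hk (Finset.mem_filter.1 hi).2, ?_⟩
  have h1 : pRegularPart r D.th = D.th := by
    funext g
    rw [Blk.pRegularPart_apply]
    split_ifs with hg
    · refine (D.th_eq_zero fun h => ?_).symm
      obtain ⟨c, hc⟩ := S.exists_conj_mem_C h
      have := orderOf_dvd_natCard _ hc
      rw [← MulAut.conj_apply, MulEquiv.orderOf_eq, hS, S.card_zpowers] at this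
      exact hrp ((Nat.prime_dvd_prime_iff_eq hr Fact.out).1 (hg.trans this))
    · rfl
  have h2 := Blk.blockPart_pRegularPart hM (Blk.isPBlock_principalBlock.memLocalRing_blockCoeff hM) D.th
  rw [h1] at h2
  have h3 := D.blockPart_th (principalBlock M G)
  rw [if_pos Blk.irrOne_mem_principalBlock] at h3
  have h4 : IsGeneralizedCharacter G (blockPart (principalBlock M G) D.th) :=
    h3 ▸ (irrOne G).2.isCharacter.isGeneralizedCharacter.add (IsGeneralizedCharacter.sum fun i _ =>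
      (D.χ i).2.isCharacter.isGeneralizedCharacter.intCast_smul _)
  obtain ⟨H, hH⟩ := Sylow.exists_subgroup_card_pow_prime r ha
  obtain ⟨k, hk⟩ := h4.exists_apply_one_eq_card_mul H fun g hg g1 => by
    rw [h2, Blk.pRegularPart_of_dvd]
    obtain ⟨j, -, hj⟩ := (Nat.dvd_prime_pow hr).1 (hH ▸ orderOf_dvd_natCard H hg)
    rw [hj]
    refine dvd_pow_self _ fun h => g1 ?_
    rwa [h, pow_zero, orderOf_eq_one_iff] at hj
  refine ⟨k, ?_⟩
  rw [h3, hH, Pi.add_apply, Finset.sum_apply] at hk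
  simp only [Pi.smul_apply, smul_eq_mul, ← (D.χ _).2.coe_charDegree, coe_irrOne] at hk
  simp only [A, d]
  exact_mod_cast hk

end PB

end Cfsg.Agent.B15
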