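import Mathlib
import Cfsg.Agent.B15.Defs
import Cfsg.Agent.B15.CertA

/-!
# The degree equations
-/

set_option autoImplicit false

namespace Cfsg.Agent.B15

open Sv

theorem eq_sgn {z : ℤ} {y : ℕ} (h : |z| = y) : ∃ n, z = sgn n y := by
  rcases abs_choice z with e | e
  · exact ⟨false, by rw [← e, h]; rfl⟩
  · exact ⟨true, by simp only [sgn, cond_true]; omega⟩

theorem mem_mod (P : Par) (n : Bool) (c u v : ℕ) :
    Mem P (mk P n c (u % 4) (v % 4) 4 4) (sgn n (c * P.al ^ u * P.be ^ v)) := by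
  have := mem_mk (P := P) n c (u % 4) (v % 4) 4 4 (u / 4) (v / 4)
  rwa [Nat.mod_add_div, Nat.mod_add_div] at this

theorem pow_mod_four {a : ℕ} (h : a ^ 4 ≡ 1 [MOD 5]) (u : ℕ) : a ^ u ≡ a ^ (u % 4) [MOD 5] := by
  conv_lhs => rw [← Nat.mod_add_div u 4, pow_add, pow_mul]
  simpa using (Nat.ModEq.refl _).mul (h.pow (u / 4))

theorem exists_cls {P : Par} (h1 : P.al ^ 4 ≡ 1 [MOD 5]) (h2 : P.be ^ 4 ≡ 1 [MOD 5]) {cs : List ℕ}
    {c u v : ℕ} (hc : c ∈ cs) {z : ℤ} (hz : |z| = (c * P.al ^ u * P.be ^ v : ℕ))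
    (hm : z ≡ 1 [ZMOD 5]) : ∃ t ∈ cls P cs, Mem P t z := by
  obtain ⟨n, rfl⟩ := eq_sgn hz
  refine ⟨_, ?_, mem_mod P n c u v⟩
  simp only [cls, List.mem_flatMap, List.mem_map, List.mem_filter, List.mem_range, beq_iff_eq]
  refine ⟨c, hc, u % 4, Nat.mod_lt _ (by norm_num), v % 4, Nat.mod_lt _ (by norm_num), n,
    ⟨by cases n <;> simp, ?_⟩, rfl⟩
  have := (((Nat.ModEq.refl c).mul (pow_mod_four h1 u)).mul (pow_mod_four h2 v))
  generalize c * P.al ^ u * P.be ^ v = x at *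
  generalize c * P.al ^ (u % 4) * P.be ^ (v % 4) = y at *
  unfold Nat.ModEq at this
  unfold Int.ModEq at hm
  cases n <;> simp only [sgn, cond_true, cond_false] at hm ⊢ <;> omega

theorem exists_pure2 {z : ℤ} {u : ℕ} (hz : |z| = 2 ^ u) (hm : z ≡ 1 [ZMOD 5]) (h1 : z ≠ 1) :
    ∃ t ∈ [mk PA true 1 2 0 4 0, mk PA false 1 4 0 4 0], Mem PA t z := by
  obtain ⟨n, rfl⟩ := eq_sgn (y := 2 ^ u) (by exact_mod_cast hz)
  have := pow_mod_four (a := 2) (by decide) u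
  have h4 := Nat.mod_lt u (show 0 < 4 by norm_num)
  unfold Nat.ModEq at this
  unfold Int.ModEq at hm
  cases n
  · have h0 : u % 4 = 0 := by
      simp only [sgn, cond_false] at hm
      generalize 2 ^ u = x at *
      generalize u % 4 = r at *
      interval_cases r <;> omega
    have : u ≠ 0 := by rintro rfl; exact h1 rfl
    refine ⟨_, List.mem_cons_of_mem _ List.mem_cons_self, ?_⟩
    convert mem_mk (P := PA) false 1 4 0 4 0 (u / 4 - 1) 0 using 2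
    rw [show 4 + 4 * (u / 4 - 1) = u by omega]
    simp [PA]
  · have h0 : u % 4 = 2 := by
      simp only [sgn, cond_true] at hm
      generalize 2 ^ u = x at *
      generalize u % 4 = r at *
      interval_cases r <;> omega
    refine ⟨_, List.mem_cons_self, ?_⟩
    convert mem_mk (P := PA) true 1 2 0 4 0 (u / 4) 0 using 2
    rw [show 2 + 4 * (u / 4) = u by omega]
    simp [PA]

theorem exists_pure3 {z : ℤ} {u : ℕ} (hz : |z| = 3 ^ u) (hm : z ≡ 1 [ZMOD 5]) (h1 : z ≠ 1) :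
    ∃ t ∈ [mk PA true 1 0 2 0 4, mk PA false 1 0 4 0 4], Mem PA t z := by
  obtain ⟨n, rfl⟩ := eq_sgn (y := 3 ^ u) (by exact_mod_cast hz)
  have := pow_mod_four (a := 3) (by decide) u
  have h4 := Nat.mod_lt u (show 0 < 4 by norm_num)
  unfold Nat.ModEq at this
  unfold Int.ModEq at hm
  cases n
  · have h0 : u % 4 = 0 := by
      simp only [sgn, cond_false] at hm
      generalize 3 ^ u = x at *
      generalize u % 4 = r at *
      interval_cases r <;> omega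
    have : u ≠ 0 := by rintro rfl; exact h1 rfl
    refine ⟨_, List.mem_cons_of_mem _ List.mem_cons_self, ?_⟩
    convert mem_mk (P := PA) false 1 0 4 0 4 0 (u / 4 - 1) using 2
    rw [show 4 + 4 * (u / 4 - 1) = u by omega]
    simp [PA]
  · have h0 : u % 4 = 2 := by
      simp only [sgn, cond_true] at hm
      generalize 3 ^ u = x at *
      generalize u % 4 = r at *
      interval_cases r <;> omega
    refine ⟨_, List.mem_cons_self, ?_⟩
    convert mem_mk (P := PA) true 1 0 2 0 4 0 (u / 4) using 2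
    rw [show 2 + 4 * (u / 4) = u by omega]
    simp [PA]

theorem solsA : ∀ l ∈ PA.sols, ∃ σ : Equiv.Perm (Fin 4),
    ![l.getD 1 0, l.getD 2 0, l.getD 3 0, l.getD 4 0] ∘ σ ∈ small ∨
      ![l.getD 1 0, l.getD 2 0, l.getD 3 0, l.getD 4 0] ∘ σ ∈ big := by decide +kernel

theorem solsB : ∀ l ∈ Sv.PB.sols, ∃ σ : Equiv.Perm (Fin 4),
    ![-64, l.getD 1 0, l.getD 2 0, l.getD 3 0] ∘ σ = ![-64, 6, -39, 96] ∨
      ![-64, l.getD 1 0, l.getD 2 0, l.getD 3 0] ∘ σ = ![-64, -24, -169, 256] ∨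
      ![-64, l.getD 1 0, l.getD 2 0, l.getD 3 0] ∘ σ = ![-64, -384, -6144, 6591] := by
  decide +kernel

theorem dioA' {A : Fin 4 → ℤ} (hf : ∀ i, ∃ u v : ℕ, |A i| = 2 ^ u * 3 ^ v)
    (hm : ∀ i, A i ≡ 1 [ZMOD 5]) (h1 : ∀ i, A i ≠ 1) (hs : 1 + ∑ i, A i = 0) {u v : ℕ}
    (h2 : |A 0| = 2 ^ u) (h3 : |A 1| = 3 ^ v) :
    ∃ σ : Equiv.Perm (Fin 4), A ∘ σ ∈ small ∨ A ∘ σ ∈ big := by
  have key : ∀ i, ∃ t ∈ cls PA [1], Mem PA t (A i) := fun i => by
    obtain ⟨u, v, h⟩ := hf i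
    exact exists_cls (u := u) (v := v) (by decide) (by decide) List.mem_cons_self
      (by simpa [PA] using h) (hm i)
  obtain ⟨t0, a0, b0⟩ := exists_pure2 h2 (hm 0) (h1 0)
  obtain ⟨t1, a1, b1⟩ := exists_pure3 h3 (hm 1) (h1 1)
  obtain ⟨t2, a2, b2⟩ := key 2
  obtain ⟨t3, a3, b3⟩ := key 3
  have := check_snd (P := PA) (by decide) (by decide) (by decide) checkA
    (zs := [1, A 0, A 1, A 2, A 3]) (by rw [← hs, Fin.sum_univ_four]; simp [add_assoc])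
    (l := [mk PA false 1 0 0 0 0, t0, t1, t2, t3])
    (List.mem_flatMap.2 ⟨t0, a0, List.mem_flatMap.2 ⟨t1, a1, List.mem_flatMap.2 ⟨t2, a2,
      List.mem_map.2 ⟨t3, a3, rfl⟩⟩⟩⟩)
    (.cons (mem_mk false 1 0 0 0 0 0 0) (.cons b0 (.cons b1 (.cons b2 (.cons b3 .nil)))))
  rcases this with h | h
  · have e : A = ![A 0, A 1, A 2, A 3] := by ext i; fin_cases i <;> rfl
    rw [e]
    exact solsA _ h
  · simp [fun i => (h1 i).symm] at h

theorem exists_not_dvd {A : Fin 4 → ℤ} (hs : 1 + ∑ i, A i = 0) {r : ℤ} (hr : ¬ r ∣ 1) :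
    ∃ i, ¬ r ∣ A i := by
  by_contra h
  push Not at h
  exact hr (by rw [eq_neg_of_add_eq_zero_left hs]; exact (Finset.dvd_sum fun i _ => h i).neg_right)

theorem dioA {A : Fin 4 → ℤ} (hf : ∀ i, ∃ u v : ℕ, |A i| = 2 ^ u * 3 ^ v)
    (hm : ∀ i, A i ≡ 1 [ZMOD 5]) (h1 : ∀ i, A i ≠ 1) (hs : 1 + ∑ i, A i = 0) :
    ∃ σ : Equiv.Perm (Fin 4), A ∘ σ ∈ small ∨ A ∘ σ ∈ big := by
  obtain ⟨i, hi⟩ := exists_not_dvd hs (r := 3) (by decide)
  obtain ⟨j, hj⟩ := exists_not_dvd hs (r := 2) (by decide)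
  obtain ⟨u, v, a⟩ := hf i
  obtain ⟨u', v', b⟩ := hf j
  obtain rfl : v = 0 := by
    by_contra h
    exact hi ((dvd_abs _ _).1 (a ▸ (dvd_pow_self 3 h).mul_left _))
  obtain rfl : u' = 0 := by
    by_contra h
    exact hj ((dvd_abs _ _).1 (b ▸ (dvd_pow_self 2 h).mul_right _))
  have hij : i ≠ j := by
    rintro rfl
    obtain rfl : u = 0 := by
      by_contra h
      exact hj ((dvd_abs _ _).1 (a ▸ (dvd_pow_self 2 h).mul_right _))
    have h2 := hm i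
    have h3 := h1 i
    unfold Int.ModEq at h2
    rcases abs_choice (A i) with e | e <;> omega
  obtain ⟨τ, t0, t1⟩ := (by decide +kernel :
    ∀ i j : Fin 4, i ≠ j → ∃ τ : Equiv.Perm (Fin 4), τ 0 = i ∧ τ 1 = j) i j hij
  obtain ⟨σ, h⟩ := dioA' (A := A ∘ τ) (fun _ => hf _) (fun _ => hm _) (fun _ => h1 _)
    (by rw [← hs]; exact congrArg _ (Equiv.sum_comp τ A)) (u := u) (v := v')
    (by simpa [t0] using a) (by simpa [t1] using b)
  exact ⟨τ * σ, h⟩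

theorem dioB {A : Fin 4 → ℤ} (h0 : A 0 = -64)
    (hf : ∀ i, ∃ u j v : ℕ, j ≤ 1 ∧ |A i| = 2 ^ u * 3 ^ j * 13 ^ v)
    (hm : ∀ i, A i ≡ 1 [ZMOD 5]) (h1 : ∀ i, A i ≠ 1) (hs : 1 + ∑ i, A i = 0) :
    ∃ σ : Equiv.Perm (Fin 4), A ∘ σ = ![-64, 6, -39, 96] ∨ A ∘ σ = ![-64, -24, -169, 256] ∨
      A ∘ σ = ![-64, -384, -6144, 6591] := by
  have key : ∀ i, ∃ t ∈ cls Sv.PB [1, 3], Mem Sv.PB t (A i) := fun i => by
    obtain ⟨u, j, v, hj, h⟩ := hf i
    exact exists_cls (c := 3 ^ j) (u := u) (v := v) (by decide) (by decide)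
      (by interval_cases j <;> simp) (by rw [h]; simp [Sv.PB, mul_comm]) (hm i)
  obtain ⟨t1, a1, b1⟩ := key 1
  obtain ⟨t2, a2, b2⟩ := key 2
  obtain ⟨t3, a3, b3⟩ := key 3
  have := check_snd (P := Sv.PB) (by decide) (by decide) (by decide) checkB
    (zs := [-63, A 1, A 2, A 3]) (by
      rw [Fin.sum_univ_four, h0] at hs
      simp only [List.sum_cons, List.sum_nil]
      omega)
    (l := [mk Sv.PB true 63 0 0 0 0, t1, t2, t3])
    (List.mem_flatMap.2 ⟨t1, a1, List.mem_flatMap.2 ⟨t2, a2, List.mem_map.2 ⟨t3, a3, rfl⟩⟩⟩)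
    (.cons (mem_mk true 63 0 0 0 0 0 0) (.cons b1 (.cons b2 (.cons b3 .nil))))
  rcases this with h | h
  · have e : A = ![-64, A 1, A 2, A 3] := by ext i; fin_cases i <;> first | rfl | exact h0
    rw [e]
    exact solsB _ h
  · simp [fun i => (h1 i).symm] at h

end Cfsg.Agent.B15
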