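import Mathlib
import Cfsg.Agent.B15.Defs

set_option autoImplicit false
set_option linter.unusedSectionVars false

namespace Cfsg.Agent.B15

open Cfsg Cfsg.Agent.Ch Cfsg.Agent.Blk.One Subgroup

namespace Kill

/-- Clearing denominators. -/
theorem int {r : ℕ} {A a : Fin 4 → ℤ} (h : Num 5 r A a) (L N : ℤ) (hL : 0 < L) (e : Bq A a a * L = N)
    (i : Fin 4) (k : ℕ) (hk : (r : ℤ) ^ k ∣ A i) : 0 ≤ N ∧ N ≤ 5 * L ∧ N % (r : ℤ) ^ k = 0 := by
  have hL' : (0 : ℚ) < L := by exact_mod_cast hL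
  refine ⟨?_, ?_, ?_⟩
  · have := mul_nonneg h.nonneg hL'.le
    rw [e] at this
    exact_mod_cast this
  · have := mul_le_mul_of_nonneg_right h.le hL'.le
    rw [e] at this
    exact_mod_cast this
  · obtain ⟨m, u, hm, e'⟩ := h.val i k hk
    have h1 : N * m = (r : ℤ) ^ k * (u * L) := by
      have : (N : ℚ) * m = (r : ℚ) ^ k * (u * L) := by rw [← e, ← mul_assoc, ← e']; ring
      exact_mod_cast this
    refine Int.emod_eq_zero_of_dvd (IsCoprime.dvd_of_dvd_mul_right (z := (m : ℤ)) ?_ ⟨_, h1⟩)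
    exact (Nat.isCoprime_iff_coprime.2 hm.symm).pow_left

theorem quo {r : ℕ} {A a : Fin 4 → ℤ} (h : Num 5 r A a) (i : Fin 4) (k : ℕ) (c B : ℤ) (hc : (r : ℤ) ^ k = c)
    (hc0 : 0 < c) (hA : |A i| = c * (B + 1)) : ∃ x, a i = c * x ∧ -B ≤ x ∧ x ≤ B := by
  obtain ⟨x, hx⟩ := h.dvd i k (hc ▸ (dvd_abs _ _).1 ⟨_, hA⟩)
  have := h.lt i
  rw [hA, hx, hc, abs_mul, abs_of_pos hc0, mul_lt_mul_iff_right₀ hc0, abs_lt] at this
  exact ⟨x, hc ▸ hx, by omega, by omega⟩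

theorem sum {r : ℕ} {A a : Fin 4 → ℤ} (h : Num 5 r A a) : 1 + (a 0 + a 1 + a 2 + a 3) = 0 := by
  have := h.sum
  rwa [Fin.sum_univ_four] at this

theorem bq (c0 c1 c2 c3 : ℤ) (a b : Fin 4 → ℤ) : Bq ![c0, c1, c2, c3] a b =
    1 + ((a 0 : ℚ) * b 0 / c0 + (a 1 : ℚ) * b 1 / c1 + (a 2 : ℚ) * b 2 / c2 + (a 3 : ℚ) * b 3 / c3) := by
  rw [Bq, Fin.sum_univ_four]; rfl

/-- Parity of a valuation. -/
theorem odd_val {l n m y i j : ℕ} (hl : l.Prime) (h2 : ¬ l ∣ 2) (h3 : ¬ l ∣ 3) (hn : ¬ l ∣ n) (hm : m ≠ 0) :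
    l * n * m ^ 2 ≠ y ^ 2 * (2 ^ i * 3 ^ j) := fun e => by
  have hn0 : n ≠ 0 := by rintro rfl; exact hn (dvd_zero l)
  have hy : y ≠ 0 := by
    rintro rfl
    exact mul_ne_zero (mul_ne_zero hl.ne_zero hn0) (pow_ne_zero 2 hm) (by rw [e]; simp)
  have := congrArg (fun t => t.factorization l) e
  simp only [Nat.factorization_mul (mul_ne_zero hl.ne_zero hn0) (pow_ne_zero 2 hm), Nat.factorization_mul hl.ne_zero hn0,
    Nat.factorization_mul (pow_ne_zero 2 hy) (by positivity : 2 ^ i * 3 ^ j ≠ 0),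
    Nat.factorization_mul (by positivity : 2 ^ i ≠ 0) (by positivity : 3 ^ j ≠ 0), Nat.factorization_pow,
    Finsupp.add_apply, Finsupp.smul_apply, hl.factorization_self, Nat.factorization_eq_zero_of_not_dvd hn,
    Nat.factorization_eq_zero_of_not_dvd h2, Nat.factorization_eq_zero_of_not_dvd h3, smul_eq_mul] at this
  omega

/-- The range condition. -/
abbrev R (L M N : ℤ) : Prop := 0 ≤ N ∧ N ≤ 5 * L ∧ N % M = 0

theorem s1 : ∀ x : ℤ, -7 ≤ x → x ≤ 7 → ∀ y : ℤ, -3 ≤ y → y ≤ 3 → |-1 - 3 * x - 9 * y| < 4 →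
    ¬ R 8 9 (8 - 2 * (-1 - 3 * x - 9 * y) ^ 2 - 3 * x ^ 2 + 18 * y ^ 2) := by decide +kernel

theorem s2 : ∀ x : ℤ, -3 ≤ x → x ≤ 3 → ∀ y : ℤ, -1 ≤ y → y ≤ 1 →
    ¬ R 64 81 (64 + 144 * x ^ 2 - 864 * y ^ 2 - (-1 - 9 * x - 27 * y) ^ 2) := by decide +kernel

theorem s3 : ∀ x : ℤ, -7 ≤ x → x ≤ 7 → ∀ y : ℤ, -255 ≤ y → y ≤ 255 →
    ¬ R 256 729 (256 + 864 * x ^ 2 + y ^ 2 + (-1 - 27 * x - y) ^ 2) := by decide +kernel

theorem s4 : ∀ x : ℤ, -127 ≤ x → x ≤ 127 → ∀ y : ℤ, -7 ≤ y → y ≤ 7 →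
    ¬ R 16384 2187 (16384 - 384 * x ^ 2 - (-1 - 3 * x - 2187 * y) ^ 2 + 4478976 * y ^ 2) := by decide +kernel

theorem s5a : ∀ x : ℤ, -26 ≤ x → x ≤ 26 → ∀ y : ℤ, -2 ≤ y → y ≤ 2 → |-1 - 8 * x - 512 * y| < 729 →
    R 729 1024 (729 + 216 * x ^ 2 - (-1 - 8 * x - 512 * y) ^ 2 + 124416 * y ^ 2) → x = 3 ∧ y = 0 := by
  decide +kernel

theorem s5b : ∀ x : ℤ, -7 ≤ x → x ≤ 7 → ∀ y : ℤ, -511 ≤ y → y ≤ 511 → |-1 - 27 * x - 3 * y| < 1024 →
    R 1024 729 (1024 + 3456 * x ^ 2 - (-1 - 27 * x - 3 * y) ^ 2 + 6 * y ^ 2) → x = -1 := by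
  decide +kernel

theorem s6b : ∀ x : ℤ, -7 ≤ x → x ≤ 7 → ∀ y : ℤ, -63 ≤ y → y ≤ 63 → |-1 - 27 * x - 9 * y| < 64 →
    R 64 729 (64 - (-1 - 27 * x - 9 * y) ^ 2 + 216 * x ^ 2 + 9 * y ^ 2) → x = -1 ∧ y = 1 := by
  decide +kernel

theorem s6a : ∀ x : ℤ, -26 ≤ x → x ≤ 26 → ∀ y : ℤ, -8 ≤ y → y ≤ 8 → 0 ≤ 1 - x + y → 1 - x + y ≤ 5 →
    R 729 64 (729 + 216 * x ^ 2 + 5184 * y ^ 2 - (-1 - 8 * x - 64 * y) ^ 2) →
    (x % 2 = 1 ∧ y % 2 = 0 ∧ y ≠ 0) ∨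
      729 + 216 * x ^ 2 + 5184 * y ^ 2 - (-1 - 8 * x - 64 * y) ^ 2 ∈
        [5 * 576, 11 * 64, 17 * 64, 7 * 128, 5 * 448] := by
  decide +kernel

theorem s7 : ∀ x : ℤ, -2 ≤ x → x ≤ 2 → ¬ R 507 256 (507 - 1352 * x ^ 2 - 3 * (-1 - 8 * x) ^ 2) := by
  decide +kernel

theorem s8 : ∀ x : ℤ, -2 ≤ x → x ≤ 2 → ∀ y : ℤ, -2 ≤ y → y ≤ 2 →
    ¬ R 6591 2048 (6591 - 281216 * x ^ 2 - 4499456 * y ^ 2 + (-1 - 128 * x - 2048 * y) ^ 2) := by
  decide +kernel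

end Kill

open Kill

variable {a b : Fin 4 → ℤ}

theorem kill1 : ¬ Num 5 3 ![-4, -9, -24, 36] b := fun h => by
  have h1 : b 1 = 0 := h.pure 1 2 (by decide)
  obtain ⟨x, hx, x1, x2⟩ := quo h 2 1 3 7 (by decide) (by decide) (by decide)
  obtain ⟨y, hy, y1, y2⟩ := quo h 3 2 9 3 (by decide) (by decide) (by decide)
  have h0 : b 0 = -1 - 3 * x - 9 * y := by have := sum h; omega
  refine s1 x x1 x2 y y1 y2 (h0 ▸ h.lt 0) (int h 8 _ (by decide) ?_ 1 2 (by decide))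
  rw [bq, h0, h1, hx, hy]; push_cast; ring

theorem kill2 : ¬ Num 5 3 ![36, -54, -64, 81] b := fun h => by
  have h3 : b 3 = 0 := h.pure 3 4 (by decide)
  obtain ⟨x, hx, x1, x2⟩ := quo h 0 2 9 3 (by decide) (by decide) (by decide)
  obtain ⟨y, hy, y1, y2⟩ := quo h 1 3 27 1 (by decide) (by decide) (by decide)
  have h2 : b 2 = -1 - 9 * x - 27 * y := by have := sum h; omega
  refine s2 x x1 x2 y y1 y2 (int h 64 _ (by decide) ?_ 3 4 (by decide))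
  rw [bq, h2, h3, hx, hy]; push_cast; ring

theorem kill3 : ¬ Num 5 3 ![216, 256, 256, -729] b := fun h => by
  have h3 : b 3 = 0 := h.pure 3 6 (by decide)
  obtain ⟨x, hx, x1, x2⟩ := quo h 0 3 27 7 (by decide) (by decide) (by decide)
  obtain ⟨y, hy, y1, y2⟩ := quo h 1 0 1 255 (by decide) (by decide) (by decide)
  have h2 : b 2 = -1 - 27 * x - y := by have := sum h; omega
  refine s3 x x1 x2 y y1 y2 (int h 256 _ (by decide) ?_ 3 6 (by decide))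
  rw [bq, h2, h3, hx, hy]; push_cast; ring

theorem kill4 : ¬ Num 5 3 ![-384, -729, -16384, 17496] b := fun h => by
  have h1 : b 1 = 0 := h.pure 1 6 (by decide)
  obtain ⟨x, hx, x1, x2⟩ := quo h 0 1 3 127 (by decide) (by decide) (by decide)
  obtain ⟨y, hy, y1, y2⟩ := quo h 3 7 2187 7 (by decide) (by decide) (by decide)
  have h2 : b 2 = -1 - 3 * x - 2187 * y := by have := sum h; omega
  refine s4 x x1 x2 y y1 y2 (int h 16384 _ (by decide) ?_ 3 7 (by decide))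
  rw [bq, h2, h1, hx, hy]; push_cast; ring

theorem kill5 (ha : Num 5 2 ![216, -729, -1024, 1536] a) (hb : Num 5 3 ![216, -729, -1024, 1536] b)
    (h : 0 ≤ Bq ![216, -729, -1024, 1536] a b) : False := by
  have a2 : a 2 = 0 := ha.pure 2 10 (by decide)
  obtain ⟨x, hx, x1, x2⟩ := quo ha 0 3 8 26 (by decide) (by decide) (by decide)
  obtain ⟨y, hy, y1, y2⟩ := quo ha 3 9 512 2 (by decide) (by decide) (by decide)
  have a1 : a 1 = -1 - 8 * x - 512 * y := by have := sum ha; omega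
  obtain ⟨rfl, rfl⟩ := s5a x x1 x2 y y1 y2 (a1 ▸ ha.lt 1) (int ha 729 _ (by decide)
    (by rw [bq, a1, a2, hx, hy]; push_cast; ring) 2 10 (by decide))
  have b1 : b 1 = 0 := hb.pure 1 6 (by decide)
  obtain ⟨u, hu, u1, u2⟩ := quo hb 0 3 27 7 (by decide) (by decide) (by decide)
  obtain ⟨v, hv, v1, v2⟩ := quo hb 3 1 3 511 (by decide) (by decide) (by decide)
  have b2 : b 2 = -1 - 27 * u - 3 * v := by have := sum hb; omega
  obtain rfl := s5b u u1 u2 v v1 v2 (b2 ▸ hb.lt 2) (int hb 1024 _ (by decide)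
    (by rw [bq, b1, b2, hu, hv]; push_cast; ring) 1 6 (by decide))
  rw [bq, a2, hx, hy, b1, hu] at h
  norm_num at h

theorem kill6 (ha : Num 5 2 ![-64, 216, 576, -729] a) (hb : Num 5 3 ![-64, 216, 576, -729] b)
    (h : 0 ≤ Bq ![-64, 216, 576, -729] a b) (h' : Bq ![-64, 216, 576, -729] a b ≤ 5)
    (hs : ∑ j with (2 : ℤ) ^ ((![6, 3, 6, 0] : Fin 4 → ℕ) j + 1) ∣ a j, a j = 0)
    (hq : ∃ i j m y : ℕ, m ≠ 0 ∧
      Bq ![-64, 216, 576, -729] a a * (m : ℚ) ^ 2 = (y : ℚ) ^ 2 * (2 ^ i * 3 ^ j)) : False := by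
  have b3 : b 3 = 0 := hb.pure 3 6 (by decide)
  obtain ⟨u, hu, u1, u2⟩ := quo hb 1 3 27 7 (by decide) (by decide) (by decide)
  obtain ⟨v, hv, v1, v2⟩ := quo hb 2 2 9 63 (by decide) (by decide) (by decide)
  have b0 : b 0 = -1 - 27 * u - 9 * v := by have := sum hb; omega
  obtain ⟨rfl, rfl⟩ := s6b u u1 u2 v v1 v2 (b0 ▸ hb.lt 0) (int hb 64 _ (by decide)
    (by rw [bq, b0, b3, hu, hv]; push_cast; ring) 3 6 (by decide))
  have a0 : a 0 = 0 := ha.pure 0 6 (by decide)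
  obtain ⟨x, hx, x1, x2⟩ := quo ha 1 3 8 26 (by decide) (by decide) (by decide)
  obtain ⟨y, hy, y1, y2⟩ := quo ha 2 6 64 8 (by decide) (by decide) (by decide)
  have a3 : a 3 = -1 - 8 * x - 64 * y := by have := sum ha; omega
  have e : Bq ![-64, 216, 576, -729] a b = ((1 - x + y : ℤ) : ℚ) := by
    rw [bq, a0, hx, hy, b3, hu, hv]; push_cast; ring
  have e' : Bq ![-64, 216, 576, -729] a a * (729 : ℤ) =
      ((729 + 216 * x ^ 2 + 5184 * y ^ 2 - (-1 - 8 * x - 64 * y) ^ 2 : ℤ) : ℚ) := by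
    rw [bq, a0, a3, hx, hy]; push_cast; ring
  rw [e] at h h'
  rcases s6a x x1 x2 y y1 y2 (by exact_mod_cast h) (by exact_mod_cast h')
    (int ha 729 _ (by decide) e' 0 6 (by decide)) with ⟨k1, k2, k3⟩ | k
  · rw [Finset.sum_filter, Fin.sum_univ_four, a0, a3, hx, hy] at hs
    change ((if (2 : ℤ) ^ (6 + 1) ∣ 0 then 0 else 0) + (if (2 : ℤ) ^ (3 + 1) ∣ 8 * x then 8 * x else 0) +
      (if (2 : ℤ) ^ (6 + 1) ∣ 64 * y then 64 * y else 0) +
      if (2 : ℤ) ^ (0 + 1) ∣ -1 - 8 * x - 64 * y then -1 - 8 * x - 64 * y else 0) = 0 at hs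
    rw [ite_self, if_neg (by omega), if_pos (by omega), if_neg (by omega)] at hs
    omega
  · obtain ⟨i, j, m, z, hm, hz⟩ := hq
    have key : ∀ l n : ℕ, l.Prime → ¬ l ∣ 2 → ¬ l ∣ 3 → ¬ l ∣ n →
        729 + 216 * x ^ 2 + 5184 * y ^ 2 - (-1 - 8 * x - 64 * y) ^ 2 ≠ l * n := fun l n hl l2 l3 ln k => by
      refine odd_val (y := z) (i := i) (j := j + 6) hl l2 l3 ln hm ?_
      rw [k] at e'
      have : ((l : ℚ) * n * m ^ 2) = z ^ 2 * (2 ^ i * 3 ^ (j + 6)) := by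
        push_cast at e'
        rw [← e', pow_add]
        linear_combination 729 * hz
      exact_mod_cast this
    simp only [List.mem_cons, List.not_mem_nil, or_false] at k
    rcases k with k | k | k | k | k
    · exact key 5 576 (by norm_num) (by norm_num) (by norm_num) (by norm_num) k
    · exact key 11 64 (by norm_num) (by norm_num) (by norm_num) (by norm_num) k
    · exact key 17 64 (by norm_num) (by norm_num) (by norm_num) (by norm_num) k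
    · exact key 7 128 (by norm_num) (by norm_num) (by norm_num) (by norm_num) k
    · exact key 5 448 (by norm_num) (by norm_num) (by norm_num) (by norm_num) k

theorem kill7 : ¬ Num 5 2 ![-64, -24, -169, 256] a := fun h => by
  have h0 : a 0 = 0 := h.pure 0 6 (by decide)
  have h3 : a 3 = 0 := h.pure 3 8 (by decide)
  obtain ⟨x, hx, x1, x2⟩ := quo h 1 3 8 2 (by decide) (by decide) (by decide)
  have h2 : a 2 = -1 - 8 * x := by have := sum h; omega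
  refine s7 x x1 x2 (int h 507 _ (by decide) ?_ 3 8 (by decide))
  rw [bq, h0, h2, h3, hx]; push_cast; ring

theorem kill8 : ¬ Num 5 2 ![-64, -384, -6144, 6591] a := fun h => by
  have h0 : a 0 = 0 := h.pure 0 6 (by decide)
  obtain ⟨x, hx, x1, x2⟩ := quo h 1 7 128 2 (by decide) (by decide) (by decide)
  obtain ⟨y, hy, y1, y2⟩ := quo h 2 11 2048 2 (by decide) (by decide) (by decide)
  have h3 : a 3 = -1 - 128 * x - 2048 * y := by have := sum h; omega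
  refine s8 x x1 x2 y y1 y2 (int h 6591 _ (by decide) ?_ 2 11 (by decide))
  rw [bq, h0, h3, hx, hy]; push_cast; ring

end Cfsg.Agent.B15
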