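import Mathlib
import Cfsg.Agent.B15.Val
import Cfsg.Agent.B15.Kill
import Cfsg.Agent.B15.Dio
import Cfsg.Agent.Blk.OneBR4
import Cfsg.Agent.Blk.OneDeg

set_option autoImplicit false
set_option linter.unusedSectionVars false

namespace Cfsg.Agent.B15

open Cfsg Cfsg.Agent.Ch Cfsg.Agent.Blk.One Subgroup
open scoped commutatorElement

theorem b13_comm {G : Type*} [Group G] [IsSimpleGroup G] (hG : ¬ IsMulCommutative G) :
    commutator G = ⊤ := by
  rcases (inferInstance : (commutator G).Normal).eq_bot_or_eq_top with h | h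
  · refine absurd ⟨⟨fun x y => ?_⟩⟩ hG
    have h1 : ⁅x, y⁆ ∈ commutator G := commutator_mem_commutator (mem_top x) (mem_top y)
    rw [h, mem_bot, commutatorElement_eq_one_iff_mul_comm] at h1
    exact h1
  · exact h

theorem b13_fac {a b d : ℕ} (h : d ∣ 2 ^ a * 3 * 5 * 13 ^ b) (h5 : ¬ 5 ∣ d) :
    ∃ u j v : ℕ, j ≤ 1 ∧ d = 2 ^ u * 3 ^ j * 13 ^ v := by
  have hc : Nat.Coprime d 5 := ((Nat.Prime.coprime_iff_not_dvd Nat.prime_five).2 h5).symm
  have h1 : d ∣ 2 ^ a * 3 ^ 1 * 13 ^ b :=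
    hc.dvd_of_dvd_mul_right (by rw [show 2 ^ a * 3 ^ 1 * 13 ^ b * 5 = 2 ^ a * 3 * 5 * 13 ^ b by ring]; exact h)
  obtain ⟨y, z, hy, hz, rfl⟩ := (Nat.dvd_mul.1 h1)
  obtain ⟨y1, y2, hy1, hy2, rfl⟩ := (Nat.dvd_mul.1 hy)
  obtain ⟨u, -, rfl⟩ := (Nat.dvd_prime_pow Nat.prime_two).1 hy1
  obtain ⟨j, hj, rfl⟩ := (Nat.dvd_prime_pow Nat.prime_three).1 hy2
  obtain ⟨v, -, rfl⟩ := (Nat.dvd_prime_pow (by norm_num : Nat.Prime 13)).1 hz
  exact ⟨u, j, v, hj, rfl⟩

theorem b13_four {G : Type*} [Group G] [Fintype G] [IsSimpleGroup G] [Fact (Nat.Prime 5)]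
    (hG : ¬ IsMulCommutative G) {S : Setup 5 G} (D : PB S 4)
    (h : D.A = ![-64, 6, -39, 96] ∨ D.A = ![-64, -24, -169, 256] ∨ D.A = ![-64, -384, -6144, 6591]) : False := by
  have hd : ∀ i, D.d i ∣ Nat.card G := fun i => (D.d_dvd i).trans S.C.index_dvd_card
  have h0 : D.d 0 = 2 ^ 6 := by
    rw [← D.natAbs_A]
    rcases h with h | h | h <;> rw [h] <;> rfl
  have key : ∃ a, Num 5 2 D.A a := by
    obtain ⟨z, hz, hc⟩ := exists_central (G := G) Nat.prime_two
      ((by rw [h0]; norm_num : 2 ∣ D.d 0).trans (hd 0))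
    obtain ⟨a, ha⟩ := D.exists_val_inv (t := z) (by rw [← pow_two, ← hz, pow_orderOf_eq_one])
    exact ⟨a, PB.Val.num D hG Nat.prime_two (by norm_num) hz hc h0 ha⟩
  obtain ⟨a, ha⟩ := key
  rcases h with h | h | h
  · have h2 : D.d 2 = 39 := by rw [← D.natAbs_A, h]; rfl
    have h1 : D.d 1 = 6 := by rw [← D.natAbs_A, h]; rfl
    have h13 : Nat.Prime 13 := by norm_num
    obtain ⟨z, hz, -⟩ := exists_central (G := G) h13 ((by rw [h2]; norm_num : 13 ∣ D.d 2).trans (hd 2))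
    have hint : ∀ g, ∃ m : ℤ, (D.χ 1 : G → ℂ) g = m :=
      D.exists_int (i := 1) (by rw [h]; decide)
    obtain ⟨m, hm⟩ := hint z
    have hz1 : z ≠ 1 := by rintro rfl; simp at hz
    have h3 := abs_lt hG (D.ne_one 1) hz1 hm
    have h4 := cong_deg (D.χ 1).2.isCharacter (k := 1) h13 (g := z)
      (by rw [pow_one, ← hz, pow_orderOf_eq_one]) (fun y _ => hint y) hm
    have h5 : charDegree (D.χ 1 : G → ℂ) = 6 := h1
    rw [h5] at h3 h4
    rw [_root_.abs_lt] at h3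
    rw [Int.ModEq] at h4
    omega
  · rw [h] at ha; exact kill7 ha
  · rw [h] at ha; exact kill8 ha

theorem caseB13 {G : Type*} [Group G] [Fintype G] [IsSimpleGroup G] [Fact (Nat.Prime 3)]
    (hG : ¬ IsMulCommutative G) {a b : ℕ} (hc : Nat.card G = 2 ^ a * 3 * 5 * 13 ^ b)
    {S : Setup 3 G} (D : PB S 2) (h0 : D.d 0 = 64) (h1 : D.d 1 = 65) : False := by
  haveI : Fact (Nat.Prime 5) := ⟨Nat.prime_five⟩
  have hs := D.sum_A
  simp only [Fin.sum_univ_two, PB.A, h0, h1] at hs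
  have hδ0 : D.δ 0 = 1 := by
    rcases D.sign 0 with h | h <;> rcases D.sign 1 with h' | h' <;> rw [h, h'] at hs <;> first | exact h | norm_num at hs
  obtain ⟨S'⟩ := exists_setup' (G := G) (p := 5) (by rw [hc]; exact (Dvd.intro_left _ rfl).mul_right _) (by
    rw [hc, show 2 ^ a * 3 * 5 * 13 ^ b = 5 * (2 ^ a * 3 * 13 ^ b) by ring, pow_two,
      Nat.mul_dvd_mul_iff_left (by norm_num), Nat.prime_five.dvd_mul, Nat.prime_five.dvd_mul]
    rintro ((h | h) | h)
    · exact absurd (Nat.prime_five.dvd_of_dvd_pow h) (by norm_num)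
    · norm_num at h
    · exact absurd (Nat.prime_five.dvd_of_dvd_pow h) (by norm_num))
  have hv : ∀ g : G, 5 ∣ orderOf g → (D.χ 0 : G → ℂ) g = -1 := by
    intro g hg
    have e1 : (D.χ 1 : G → ℂ) g = 0 := S'.apply_eq_zero_of_dvd (by
      rw [show charDegree (D.χ 1 : G → ℂ) = 65 from h1]; norm_num) hg
    have e2 : ¬ 3 ∣ orderOf g := fun h3 => by
      have := D.sing 1 g h3
      rw [e1] at this
      rcases D.sign 1 with h | h <;> rw [h] at this <;> norm_num at this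
    have e3 := D.reg g e2
    simp only [Fin.sum_univ_two, e1, hδ0] at e3
    linear_combination e3
  have he2 := S'.two_le_relIndex (b13_comm hG)
  have he4 : S'.C.relIndex S'.N ∣ 4 := S'.relIndex_dvd
  have he5 := Nat.le_of_dvd (by norm_num) he4
  have he : S'.C.relIndex S'.N = 2 ∨ S'.C.relIndex S'.N = 4 := by
    generalize S'.C.relIndex S'.N = e at he2 he4 he5
    interval_cases e <;> simp_all
  rcases he with he | he
  · obtain ⟨χ, δ, ε, e, -, -, hε, hχ, hdeg, -, hdv, hu⟩ := exists_two S' he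
    have e1 := hu (D.χ 0) (-1) (D.ne_one 0) (by norm_num) hv
    subst e1
    have e2 : (δ : ℂ) = -1 := (hχ S'.x S'.hx.symm.dvd).symm.trans (hv S'.x S'.hx.symm.dvd)
    have e3 : δ = -1 := by exact_mod_cast e2
    rw [show charDegree (D.χ 0 : G → ℂ) = 64 from h0, e3] at hdeg
    have e4 : e = 63 := by rcases hε with h | h <;> rw [h] at hdeg <;> omega
    have e5 : 7 ∣ 2 ^ a * 3 * 5 * 13 ^ b := by
      rw [← hc]; exact ((by rw [e4]; norm_num : 7 ∣ e).trans hdv).trans S'.C.index_dvd_card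
    have h7 : Nat.Prime 7 := by norm_num
    rw [h7.dvd_mul, h7.dvd_mul, h7.dvd_mul] at e5
    rcases e5 with ((h | h) | h) | h
    · exact absurd (h7.dvd_of_dvd_pow h) (by norm_num)
    · norm_num at h
    · norm_num at h
    · exact absurd (h7.dvd_of_dvd_pow h) (by norm_num)
  · obtain ⟨D'⟩ := exists_pb (n := 4) S' rfl (by norm_num) he
    obtain ⟨i, hi, hδ⟩ := D'.mem (D.ne_one 0) (c := -1) (by norm_num) hv
    have hδ' : D'.δ i = -1 := by exact_mod_cast hδ.symm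
    have hA : D'.A i = -64 := by
      have : D'.d i = 64 := by rw [← h0, PB.d, PB.d, hi]
      rw [PB.A, hδ', this]; norm_num
    obtain ⟨σ, hσ⟩ := dioB (A := (D'.perm (Equiv.swap 0 i)).A) (by simpa [PB.perm_A] using hA)
      (fun j => by
        have hdv := (D'.perm (Equiv.swap 0 i)).d_dvd j
        obtain ⟨u, k, v, hk, e⟩ := b13_fac (a := a) (b := b) (hc ▸ hdv.trans S'.C.index_dvd_card)
          (fun h5 => S'.not_dvd_index_of_mem ((S'.hC _).2 rfl) (h5.trans hdv))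
        exact ⟨u, k, v, hk, by rw [PB.abs_A, e]; push_cast; rfl⟩)
      (fun j => (D'.perm (Equiv.swap 0 i)).A_modEq j)
      (fun j h => by
        have h2 := one_lt_deg hG ((D'.perm (Equiv.swap 0 i)).ne_one j)
        have h3 := (D'.perm (Equiv.swap 0 i)).natAbs_A j
        rw [h] at h3
        exact absurd (h2.trans_eq (show _ = 1 from h3.symm)) (lt_irrefl _))
      (D'.perm (Equiv.swap 0 i)).sum_A
    exact b13_four hG ((D'.perm (Equiv.swap 0 i)).perm σ) hσ

end Cfsg.Agent.B15
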