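import Mathlib
import Cfsg.Agent.B15.Val
import Cfsg.Agent.B15.Kill

set_option autoImplicit false
set_option linter.unusedSectionVars false

namespace Cfsg.Agent.B15

open Cfsg Cfsg.Agent.Ch Cfsg.Agent.Blk.One Subgroup

variable {G : Type*} [Group G] [Fintype G] [IsSimpleGroup G] [Fact (Nat.Prime 5)]

namespace KillG

variable {S : Setup 5 G} (D : PB S 4)

theorem cent {r : ℕ} (hr : r.Prime) {i : Fin 4} {k : ℕ} (hi : D.d i = r ^ (k + 1)) :
    ∃ z : G, orderOf z = r ∧ ¬ r ∣ (centralizer ({z} : Set G)).index :=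
  exists_central hr ((((dvd_pow_self r k.succ_ne_zero).trans hi.symm.dvd).trans (D.d_dvd i)).trans
    S.C.index_dvd_card)

theorem num (hG : ¬ IsMulCommutative G) {A : Fin 4 → ℤ} (h : D.A = A) (hA : Function.Injective A) {r : ℕ}
    (hr : r.Prime) (h5 : r ≠ 5) (i : Fin 4) (k : ℕ) (hi : (A i).natAbs = r ^ (k + 1)) :
    ∃ z a, orderOf z = r ∧ ¬ r ∣ (centralizer ({z} : Set G)).index ∧ D.d i = r ^ (k + 1) ∧ D.Val z a ∧
      Num 5 r A a := by
  subst h
  rw [D.natAbs_A] at hi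
  obtain ⟨z, h1, h2⟩ := cent D hr hi
  obtain ⟨a, ha⟩ := D.exists_val hA z
  exact ⟨z, a, h1, h2, hi, ha, PB.Val.num D hG hr h5 h1 h2 hi ha⟩

theorem index_eq {a c : ℕ} (hc : Nat.card G = 2 ^ a * 3 ^ c * 5) : ∃ i j, S.C.index = 2 ^ i * 3 ^ j := by
  have h1 : S.C.index ∣ 2 ^ a * 3 ^ c :=
    ((Nat.Prime.coprime_iff_not_dvd Fact.out).2 (S.not_dvd_index_of_mem S.x_mem_C)).symm.dvd_of_dvd_mul_right
      (hc ▸ S.C.index_dvd_card)
  obtain ⟨u, v, hu, hv, e⟩ := Nat.dvd_mul.1 h1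
  obtain ⟨i, -, rfl⟩ := (Nat.dvd_prime_pow Nat.prime_two).1 hu
  obtain ⟨j, -, rfl⟩ := (Nat.dvd_prime_pow Nat.prime_three).1 hv
  exact ⟨i, j, e.symm⟩

theorem int_of_inv {χ : G → ℂ} (hχ : IsCharacter G χ) {w : G} (hw : orderOf w = 3) (h : χ w⁻¹ = χ w) :
    ∃ m : ℤ, χ w = m := by
  obtain ⟨m, hm⟩ := hχ.isGeneralizedCharacter.exists_int_of_apply_pow_eq (g := w) fun k hk => by
    have h3 : ¬ 3 ∣ k := fun e => absurd (Nat.eq_one_of_dvd_coprimes hk e (hw ▸ orderOf_dvd_natCard w)) (by decide)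
    rw [← pow_mod_orderOf, hw]
    have : k % 3 = 1 ∨ k % 3 = 2 := by omega
    rcases this with e | e <;> rw [e]
    · rw [pow_one]
    · rw [show w ^ 2 = w⁻¹ from eq_inv_of_mul_eq_one_left (by rw [← pow_succ]; exact orderOf_dvd_iff_pow_eq_one.1 hw.dvd), h]
  exact ⟨m, hm.symm⟩

theorem δ_eq {i : Fin 4} (h : 0 < D.A i) : D.δ i = 1 :=
  (D.sign i).resolve_right fun e => by
    rw [PB.A, e] at h
    omega

theorem case2 (hG : ¬ IsMulCommutative G) (h : D.A = ![216, 256, 256, -729]) : False := by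
  have d0 : D.d 0 = 216 := by rw [← D.natAbs_A, h]; rfl
  have d1 : D.d 1 = 256 := by rw [← D.natAbs_A, h]; rfl
  have d2 : D.d 2 = 256 := by rw [← D.natAbs_A, h]; rfl
  have d3 : D.d 3 = 3 ^ (5 + 1) := by rw [← D.natAbs_A, h]; rfl
  have e0 : D.δ 0 = 1 := δ_eq D (by rw [h]; decide)
  have e1 : D.δ 1 = 1 := δ_eq D (by rw [h]; decide)
  have e2 : D.δ 2 = 1 := δ_eq D (by rw [h]; decide)
  obtain ⟨w, hw, hc⟩ := cent D Nat.prime_three d3
  have w1 : w ≠ 1 := by rintro rfl; simp at hw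
  have v3 := D.zero_of_pure hG Nat.prime_three (by decide) w1 hc d3
  obtain ⟨m0, v0⟩ := D.exists_int (i := 0) (by rw [h]; decide) w
  obtain ⟨j, hj, hj'⟩ := D.galois (starRingEnd ℂ) 1
  have hj2 : j = 1 ∨ j = 2 := by
    rw [h] at hj
    clear hj'
    revert j
    decide
  have c1 := (D.χ 1).2.isCharacter
  rcases hj2 with rfl | rfl
  · obtain ⟨m1, v1⟩ := int_of_inv c1 hw (by rw [c1.apply_inv, ← hj'])
    have hr := D.reg w (by rw [hw]; decide)
    rw [Fin.sum_univ_four, e0, e1, e2, v0, v1, v3] at hr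
    refine kill3 (b := ![m0, m1, -1 - m0 - m1, 0]) (h ▸ PB.Val.num D hG Nat.prime_three (by decide) hw hc d3 ?_)
    intro i
    fin_cases i
    · simp [e0, v0]
    · simp [e1, v1]
    · simp only [Fin.reduceFinMk, e2, Matrix.cons_val]
      push_cast at hr ⊢
      linear_combination hr
    · simp [v3]
  · have c2 := (D.χ 2).2.isCharacter
    obtain ⟨n, hn⟩ := int_of_inv (c1.mul c2) hw (by
      simp only [Pi.mul_apply, c1.apply_inv, c2.apply_inv, hj', Complex.conj_conj, mul_comm])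
    rw [Pi.mul_apply, hj', Complex.mul_conj] at hn
    have n0 : 0 ≤ n := by
      have : (n : ℝ) = Complex.normSq ((D.χ 1 : G → ℂ) w) := by exact_mod_cast hn.symm
      exact_mod_cast this ▸ Complex.normSq_nonneg _
    obtain ⟨b, rfl⟩ : (27 : ℤ) ∣ m0 :=
      D.pow_dvd_val hG Nat.prime_three (by decide) hc (i := 0) (k := 3) (by rw [d0]; decide) v0
    obtain ⟨M, hM⟩ : ∃ M : ℕ, (M : ℤ) = 128 + 432 * b ^ 2 + n := ⟨_, Int.toNat_of_nonneg (by positivity)⟩
    have hB : D.B w w⁻¹ * 128 = M := by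
      rw [PB.B, Fin.sum_univ_four, (D.χ 0).2.isCharacter.apply_inv, c1.apply_inv, c2.apply_inv, hj', e0, e1, e2, v0,
        v3, d0, d1, d2, Complex.conj_conj, ← Int.cast_natCast M, hM, map_intCast]
      rw [← Complex.mul_conj] at hn
      push_cast
      linear_combination hn
    have M0 : 0 < M := by
      have : (0 : ℤ) < M := by rw [hM]; positivity
      exact_mod_cast this
    obtain ⟨m, hm, hm'⟩ := D.B_range w w⁻¹
    have h1 : M * Nat.card G = 640 * m := by
      have : (M : ℂ) * Nat.card G = 640 * m := by rw [← hB]; push_cast at hm'; linear_combination 128 * hm'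
      exact_mod_cast this
    have M1 : M ≤ 640 := by
      have := Nat.card_pos (α := G)
      nlinarith
    obtain ⟨u, hu⟩ := D.B_count (D.not_dvd_cent hG Nat.prime_three (by decide) hw hc d3) w⁻¹
    have hi : centralizer ({w⁻¹} : Set G) = centralizer {w} := by
      ext g
      rw [mem_centralizer_singleton_iff, mem_centralizer_singleton_iff]
      exact Commute.inv_right_iff
    have hcard := (centralizer ({w} : Set G)).card_mul_index
    have hpos : 0 < Nat.card (centralizer ({w} : Set G)) := Nat.card_pos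
    rw [hi, ← hcard] at hu
    obtain ⟨t, ht⟩ := D.d_dvd 3
    have h2 : M * (centralizer ({w} : Set G)).index ^ 2 = 3 ^ 6 * (3200 * u * t) := by
      refine Nat.eq_of_mul_eq_mul_left (pow_pos hpos 2) ?_
      have : ((Nat.card (centralizer ({w} : Set G)) : ℂ) ^ 2 * (M * (centralizer ({w} : Set G)).index ^ 2)) =
          (Nat.card (centralizer ({w} : Set G)) : ℂ) ^ 2 * (3 ^ 6 * (3200 * u * t)) := by
        rw [ht, d3] at hu
        rw [← hB]
        push_cast at hu
        linear_combination 128 * hu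
      exact_mod_cast this
    have h3 : 3 ^ 6 ∣ M :=
      (((Nat.Prime.coprime_iff_not_dvd Nat.prime_three).2 hc).pow 6 2).dvd_of_dvd_mul_right ⟨_, h2⟩
    have := Nat.le_of_dvd M0 h3
    omega

theorem case3 (hG : ¬ IsMulCommutative G) {a c : ℕ} (hc : Nat.card G = 2 ^ a * 3 ^ c * 5)
    (h : D.A = ![-64, 216, 576, -729]) : False := by
  obtain ⟨z, x, z1, z2, z3, z4, z5⟩ := num D hG h (by decide) Nat.prime_two (by decide) 0 5 rfl
  obtain ⟨w, y, -, -, -, w4, w5⟩ := num D hG h (by decide) Nat.prime_three (by decide) 3 5 rfl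
  have hr := PB.Val.range D z4 w4
  rw [h] at hr
  refine kill6 z5 w5 hr.1 (by exact_mod_cast hr.2)
    (PB.Val.sep D hG Nat.prime_two (by decide) z1 z2 z3 z4 ![6, 3, 6, 0] (by rw [h]; decide)) ?_
  obtain ⟨i, j, e⟩ := index_eq (S := S) hc
  obtain ⟨t, ht⟩ := D.B_inv (by decide) z1
  refine ⟨i, j, Nat.card G, 5 * t * Nat.card (centralizer ({z} : Set G)), Nat.card_pos.ne', ?_⟩
  rw [PB.Val.B_eq D z4 z4, h, e] at ht
  exact_mod_cast ht

end KillG

open KillG

theorem not_big (hG : ¬ IsMulCommutative G) {a c : ℕ} (hc : Nat.card G = 2 ^ a * 3 ^ c * 5)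
    {S : Setup 5 G} (D : PB S 4) : D.A ∉ big ∧ D.A ≠ ![-4, -9, -24, 36] := by
  refine ⟨fun h => ?_, fun h => ?_⟩
  · simp only [big, List.mem_cons, List.not_mem_nil, or_false] at h
    rcases h with h | h | h | h | h
    · obtain ⟨-, _, -, -, -, -, k⟩ := num D hG h (by decide) Nat.prime_three (by decide) 3 3 rfl
      exact kill2 k
    · exact case2 D hG h
    · exact case3 D hG hc h
    · obtain ⟨z, x, -, -, -, z4, z5⟩ := num D hG h (by decide) Nat.prime_two (by decide) 2 9 rfl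
      obtain ⟨w, y, -, -, -, w4, w5⟩ := num D hG h (by decide) Nat.prime_three (by decide) 1 5 rfl
      exact kill5 z5 w5 (h ▸ (PB.Val.range D z4 w4).1)
    · obtain ⟨-, _, -, -, -, -, k⟩ := num D hG h (by decide) Nat.prime_three (by decide) 1 5 rfl
      exact kill4 k
  · obtain ⟨-, _, -, -, -, -, k⟩ := num D hG h (by decide) Nat.prime_three (by decide) 1 1 rfl
    exact kill1 k

end Cfsg.Agent.B15
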