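import Mathlib
import Cfsg.Agent.B15.Val
import Cfsg.Agent.S0496

/-! Degrees 4, 6, 9 force a self-centralising Sylow 5-subgroup; elimination of degree vectors. -/

set_option autoImplicit false
set_option linter.unusedSectionVars false

namespace Cfsg.Agent.B15

open Cfsg Cfsg.Agent.Ch Cfsg.Agent.Blk.One Subgroup

namespace Sm

theorem mem_charKer_nine {G : Type*} [Group G] [Fintype G] [Fact (Nat.Prime 5)] (S : Setup 5 G)
    (hG : commutator G = ⊤) {χ : G → ℂ} (hχ : IsCharacter G χ)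
    (hd : charDegree χ = 9) (h : ∀ g, 5 ∣ orderOf g → χ g = -1) {v : G}
    (hv : v ∈ S.C) (hv' : ¬ 5 ∣ orderOf v) : v ∈ charKer χ := by
  have := Fintype.ofFinite S.C
  obtain ⟨θ, h1, -, h2⟩ := S.exists_four hχ 0
  have h3 : ∀ w : S.C, ¬ 5 ∣ orderOf w → 5 * θ w = χ w - 4 := fun w hw => by
    have := h2 w hw
    simp only [h _ (S.dvd_orderOf_x_pow_mul _ w.2 (by rwa [orderOf_coe])), zero_mul, ps_zero,
      mul_one, Finset.sum_const, Finset.card_univ, ZMod.card_units, nsmul_eq_mul] at this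
    push_cast at this
    linear_combination this
  have h0 : χ 1 = 9 := by rw [← hχ.coe_charDegree, hd]; rfl
  have h4 : θ 1 = 1 := by
    have := h3 1 (by simp)
    rw [coe_one, h0] at this
    linear_combination this / 5
  obtain ⟨f, rfl⟩ := h1.exists_monoidHom_of_apply_one h4
  set A := zpowers (⟨v, hv⟩ : S.C)
  have h5 : (fun a : A => χ (a : S.C)) =
      4 • (fun _ : A => (1 : ℂ)) + 5 • fun a : A => (f a : ℂ) := by
    ext a
    have := h3 a fun h => hv' (h.trans ((orderOf_dvd_of_mem_zpowers a.2).trans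
      (orderOf_coe _).symm.dvd))
    change _ = 4 • (1 : ℂ) + 5 • (f a : ℂ)
    rw [nsmul_eq_mul, nsmul_eq_mul]
    push_cast
    linear_combination -this
  obtain ⟨d, hd'⟩ := hχ.exists_detHom
  have h6 := hχ.detChar_comp (S.C.subtype.comp A.subtype) ⟨_, mem_zpowers _⟩
  have hf : IsCharacter A fun a : A => (f a : ℂ) := isCharacter_monoidHom_units (f.comp A.subtype)
  change detChar (fun a : A => χ (a : S.C)) _ = detChar χ v at h6
  rw [h5, (IsCharacter.one.nsmul 4).detChar_add (hf.nsmul 5), hf.detChar_nsmul,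
    IsCharacter.one.detChar_nsmul, IsCharacter.one.detChar_of_apply_one rfl,
    hf.detChar_of_apply_one (by simp), hd', one_pow, one_mul] at h6
  simp only [Abelianization.commutator_subset_ker d (hG ▸ mem_top v) |> MonoidHom.mem_ker.1] at h6
  have h7 : f ⟨v, hv⟩ = 1 := by
    rw [← orderOf_eq_one_iff]
    refine Nat.eq_one_of_dvd_coprimes ((Nat.Prime.coprime_iff_not_dvd Nat.prime_five).2 hv')
      (orderOf_dvd_of_pow_eq_one (Units.ext h6))
      ((orderOf_map_dvd f _).trans (orderOf_coe _).symm.dvd)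
  have : χ v = 4 • (1 : ℂ) + 5 • (f ⟨v, hv⟩ : ℂ) := congrFun h5 ⟨_, mem_zpowers _⟩
  rw [h7] at this
  exact hχ.mem_charKer.2 (by rw [this, h0]; norm_num)

/-- the bounded form of the Brauer-Tuan condition -/
def BT (A : Fin 4 → ℤ) (r a : ℕ) : Prop :=
  ∃ s : Finset (Fin 4), (∀ i ∈ s, ∀ k < 8, (A i).natAbs ≠ r ^ k) ∧ (r : ℤ) ^ a ∣ 1 + ∑ i ∈ s, A i

instance (A : Fin 4 → ℤ) (r a : ℕ) : Decidable (BT A r a) := by unfold BT; infer_instance

theorem BT.mono {A : Fin 4 → ℤ} {r a b : ℕ} (h : BT A r a) (hb : b ≤ a) : BT A r b :=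
  let ⟨s, h1, h2⟩ := h
  ⟨s, h1, (pow_dvd_pow _ hb).trans h2⟩

theorem bound : ∀ A ∈ small, A = ![-4, -9, -24, 36] ∨ (¬ BT A 2 7 ∧ ¬ BT A 3 5) := by
  decide +kernel

/-- all numerical constraints -/
def Con (A : Fin 4 → ℤ) (a c : ℕ) : Prop :=
  (∀ i, (A i).natAbs ∣ 2 ^ a * 3 ^ c) ∧ 2 ^ a * 3 ^ c % 20 = 4 ∧ BT A 2 a ∧ BT A 3 c

instance (A : Fin 4 → ℤ) (a c : ℕ) : Decidable (Con A a c) := by unfold Con; infer_instance

theorem elim : ∀ a < 7, ∀ c < 5, ∀ A ∈ small, Con A a c → A = ![-4, -9, -24, 36] ∨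
    (A = ![6, -24, -64, 81] ∧ a = 6 ∧ c = 4) ∨ (a = 4 ∧ c = 2) := by
  intro a ha c hc
  interval_cases a <;> interval_cases c <;> decide +kernel

theorem has : ∀ A ∈ small, ∃ i, A i = -4 ∨ A i = 6 ∨ A i = -9 := by decide +kernel

end Sm

open Sm

variable {G : Type*} [Group G] [Fintype G] [IsSimpleGroup G] [Fact (Nat.Prime 5)]

theorem self_of_deg (hG : ¬ IsMulCommutative G) (S : Setup 5 G) {χ : IrrCharacter G} {δ : ℤ}
    (h : ∀ g, 5 ∣ orderOf g → (χ : G → ℂ) g = δ)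
    (hd : δ * charDegree (χ : G → ℂ) = -4 ∨ δ * charDegree (χ : G → ℂ) = 6 ∨
      δ * charDegree (χ : G → ℂ) = -9) (hδ : δ = 1 ∨ δ = -1) : S.C = zpowers S.x := by
  have h1 : χ ≠ irrOne G := by
    rintro rfl
    rw [charDegree_irrOne'] at hd
    omega
  refine S.self_of_forall fun v hv hv' => (ker_bot h1).le ?_
  have hd' : charDegree (χ : G → ℂ) = 4 ∨ (δ = 1 ∧ charDegree (χ : G → ℂ) = 6) ∨
      (δ = -1 ∧ charDegree (χ : G → ℂ) = 9) := by rcases hδ with rfl | rfl <;> omega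
  rcases hd' with k | ⟨rfl, k⟩ | ⟨rfl, k⟩
  · exact S.mem_charKer_of_lt χ.2.isCharacter (by omega) hv hv' fun k =>
      (h _ (S.dvd_orderOf_x_pow_mul k hv hv')).trans (h _ (S.dvd_orderOf_x_pow k)).symm
  · exact S.mem_charKer_of_succ (perfect_of_simple hG) χ.2.isCharacter k
      (fun g hg => by rw [h g hg, Int.cast_one]) hv hv'
  · exact mem_charKer_nine S (perfect_of_simple hG) χ.2.isCharacter k
      (fun g hg => by rw [h g hg, Int.cast_neg, Int.cast_one]) hv hv'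

theorem small_cases (hG : ¬ IsMulCommutative G) {a c : ℕ} (hc : Nat.card G = 2 ^ a * 3 ^ c * 5)
    {S : Setup 5 G} (D : PB S 4) (h : D.A ∈ small) :
    D.A = ![-4, -9, -24, 36] ∨
      (D.A = ![6, -24, -64, 81] ∧ Nat.card G = 25920 ∧ S.C = zpowers S.x) := by
  obtain ⟨i, hi⟩ := has _ h
  have hS := self_of_deg hG S (D.sing i) hi (D.sign i)
  have h1 : S.C.index = 2 ^ a * 3 ^ c := by
    have := S.card_eq
    rw [← hS, hc] at this
    omega
  have key : ∀ r b : ℕ, r.Prime → r ≠ 5 → r ^ b ∣ Nat.card G → BT D.A r b := fun r b hr h5 hb => by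
    obtain ⟨s, k1, k2⟩ := D.bt hG hr h5 hS hb
    exact ⟨s, fun j hj k _ => by rw [D.natAbs_A]; exact k1 j hj k, k2⟩
  have h2 := key 2 a Nat.prime_two (by decide) (hc ▸ (dvd_mul_right _ _).mul_right _)
  have h3 := key 3 c Nat.prime_three (by decide) (hc ▸ (dvd_mul_left _ _).mul_right _)
  refine (bound _ h).elim .inl fun ⟨b1, b2⟩ => ?_
  have h4 : 2 ^ a * 3 ^ c % 20 = 4 := by
    have k1 := S.index_C
    have k2 : S.N.index % 5 = 1 := S.index_N_modEq
    rw [D.he, h1] at k1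
    omega
  obtain e1 | ⟨e1, rfl, rfl⟩ | ⟨rfl, rfl⟩ := elim a (lt_of_not_ge fun k => b1 (h2.mono k)) c
    (lt_of_not_ge fun k => b2 (h3.mono k)) _ h
    ⟨fun j => by rw [D.natAbs_A, ← h1]; exact D.d_dvd j, h4, h2, h3⟩
  · exact .inl e1
  · exact .inr ⟨e1, hc, hS⟩
  · have := S0496.result hG (by omega)
    omega

end Cfsg.Agent.B15
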