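import Mathlib
import Cfsg.Agent.B15.Defs
import Cfsg.Prelude.Def_CaseTheorems
import Cfsg.Agent.Ch.Burnside
import Cfsg.Agent.GT.Conj

/-! A nonsolvable local subgroup of a simple group of order 25920 (see stubs/Cfsg/Agent/B15/PLAN.md). -/

set_option autoImplicit false
set_option linter.unusedSectionVars false

namespace Cfsg.Agent.B15

open Cfsg Cfsg.Agent.Ch Cfsg.Agent.Blk.One Subgroup

variable {G : Type*} [Group G] [Finite G]

/-- A local subgroup `2^4.A_5`. -/
structure Loc (H E : Subgroup G) (y : G) : Prop where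
  mem : y ∈ H
  ord : orderOf y = 5
  le : E ≤ H
  norm : ∀ h ∈ H, ∀ e ∈ E, h * e * h⁻¹ ∈ E
  cardE : Nat.card E = 16
  cardH : Nat.card H = 960
  sq : ∀ e ∈ E, e * e = 1
  cent : ∀ h ∈ H, (∀ e ∈ E, h * e = e * h) → h ∈ E
  fpf : ∀ e ∈ E, y * e = e * y → e = 1

namespace U4a

instance : Fact (Nat.Prime 5) := ⟨Nat.prime_five⟩

theorem primes {r : ℕ} (hr : r.Prime) (h : r ∣ 25920) : r = 2 ∨ r = 3 ∨ r = 5 := by
  rw [show 25920 = 2 ^ 6 * (3 ^ 4 * 5) from rfl, hr.dvd_mul, hr.dvd_mul] at h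
  exact h.imp (fun h => (Nat.prime_dvd_prime_iff_eq hr Nat.prime_two).1 (hr.dvd_of_dvd_pow h)) fun h =>
    h.imp (fun h => (Nat.prime_dvd_prime_iff_eq hr Nat.prime_three).1 (hr.dvd_of_dvd_pow h))
      (Nat.prime_dvd_prime_iff_eq hr Nat.prime_five).1

theorem solv2 (h : Nat.card G ∣ 25920) (h2 : ¬ 2 ∣ Nat.card G) : Group.IsSolvable G :=
  burnside_isSolvable_of_primes (p := 3) Nat.prime_five fun _ hr hd =>
    (primes hr (hd.trans h)).resolve_left fun e => h2 (e ▸ hd)

theorem solv3 (h : Nat.card G ∣ 25920) (h2 : ¬ 3 ∣ Nat.card G) : Group.IsSolvable G :=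
  burnside_isSolvable_of_primes (p := 2) Nat.prime_five fun _ hr hd =>
    (primes hr (hd.trans h)).imp_right fun k => k.resolve_left fun e => h2 (e ▸ hd)

theorem solv5 (h : Nat.card G ∣ 25920) (h2 : ¬ 5 ∣ Nat.card G) : Group.IsSolvable G :=
  burnside_isSolvable_of_primes (p := 2) Nat.prime_three fun _ hr hd =>
    (primes hr (hd.trans h)).imp_right fun k => k.resolve_right fun e => h2 (e ▸ hd)

theorem solv_tr {p : ℕ} [Fact p.Prime] (P : Sylow p G)
    (hP : normalizer (P : Set G) ≤ centralizer (P : Set G))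
    (h : ∀ K : Subgroup G, ¬ p ∣ Nat.card K → Group.IsSolvable K) : Group.IsSolvable G := by
  have := h _ (MonoidHom.not_dvd_card_ker_transferSylow P hP)
  have := P.isPGroup'.isNilpotent
  exact Group.isSolvable_of_ker_le_range (MonoidHom.transferSylow P hP).ker.subtype
    (MonoidHom.transferSylow P hP) (range_subtype _).ge

theorem solv4 (h : Nat.card G ∣ 25920) (h4 : ¬ 4 ∣ Nat.card G) : Group.IsSolvable G := by
  by_cases h2 : 2 ∣ Nat.card G
  · obtain ⟨P⟩ : Nonempty (Sylow 2 G) := inferInstance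
    obtain ⟨k, hk⟩ := P.isPGroup'.exists_card_eq
    have h1 : k ≤ 1 := not_lt.1 fun e =>
      h4 ((pow_dvd_pow 2 e).trans (hk ▸ card_subgroup_dvd_card (P : Subgroup G)))
    have : IsCyclic (P : Subgroup G) := isCyclic_of_card_dvd_prime (p := 2) (hk ▸ pow_dvd_pow 2 h1)
    exact solv_tr P (this.normalizer_le_centralizer ((Nat.minFac_eq_two_iff _).2 h2))
      fun K hK => solv2 ((card_subgroup_dvd_card K).trans h) hK
  · exact solv2 h h2

/-- The subgroup generated by an element of order five, as a Sylow subgroup. -/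
theorem exists_sylow (h : Nat.card G ∣ 25920) {y : G} (hy : orderOf y = 5) :
    ∃ P : Sylow 5 G, (P : Subgroup G) = zpowers y := by
  have hc : Nat.card (zpowers y) = 5 ^ 1 := by rw [Nat.card_zpowers, hy, pow_one]
  refine ⟨(IsPGroup.of_card hc).toSylow fun e => ?_, rfl⟩
  rw [← (zpowers y).card_mul_index, hc] at h
  exact absurd ((Nat.mul_dvd_mul_left _ e).trans h) (by decide)

theorem cent_eq (h : Nat.card G ∣ 25920) {x y : G} (hx : orderOf x = 5)
    (hC : centralizer ({x} : Set G) = zpowers x) (hy : orderOf y = 5) {c : G} (hc : c * y = y * c) :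
    c ∈ zpowers y := by
  obtain ⟨P, hP⟩ := exists_sylow h hx
  obtain ⟨Q, hQ⟩ := exists_sylow h hy
  obtain ⟨g, hg⟩ := MulAction.exists_smul_eq G Q P
  have e : zpowers x = zpowers (MulAut.conj g y) := by
    rw [← hP, ← hg]
    exact (congrArg (map (MulAut.conj g).toMonoidHom) hQ).trans (MonoidHom.map_zpowers _ y)
  have h1 : MulAut.conj g c ∈ centralizer (zpowers x : Set G) := by
    rw [e, mem_centralizer_zpowers_iff, ← map_mul, hc, map_mul]
  rw [mem_centralizer_zpowers_iff, ← mem_centralizer_singleton_iff, hC, e] at h1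
  obtain ⟨k, hk⟩ := mem_zpowers_iff.1 h1
  exact mem_zpowers_iff.2 ⟨k, (MulAut.conj g).injective (by rw [map_zpow, hk])⟩

theorem eq_one {y : G} (hy : orderOf y = 5) {A : Subgroup G} (hA : ¬ 5 ∣ Nat.card A) {a : G} (ha : a ∈ A)
    (h : a ∈ zpowers y) : a = 1 := by
  rcases (Nat.dvd_prime Nat.prime_five).1 (hy ▸ orderOf_dvd_of_mem_zpowers h) with e | e
  · exact orderOf_eq_one_iff.1 e
  · exact absurd (e ▸ A.orderOf_dvd_natCard ha) hA

theorem mod5 {y : G} (hy : orderOf y = 5) (hC : ∀ c, c * y = y * c → c ∈ zpowers y) {A : Subgroup G}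
    (hn : y ∈ normalizer (A : Set G)) (hA : ¬ 5 ∣ Nat.card A) : Nat.card A % 5 = 1 := by
  have h := GT.card_modEq_card_inf_centralizer (p := 5) (L := A) (Q := zpowers y)
    (IsPGroup.of_card (n := 1) (by rw [Nat.card_zpowers, hy, pow_one])) (zpowers_le.2 hn)
  rwa [(eq_bot_iff.2 fun a ha => eq_one hy hA (mem_inf.1 ha).1
    (hC a ((mem_centralizer_zpowers_iff y a).1 (mem_inf.1 ha).2)) :
      A ⊓ centralizer (zpowers y : Set G) = ⊥), card_bot] at h

theorem card_norm {y : G} (hy : orderOf y = 5) (hC : ∀ c, c * y = y * c → c ∈ zpowers y) :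
    centralizer (zpowers y : Set G) = zpowers y ∧
      ∃ m, m ∣ 4 ∧ Nat.card (normalizer (zpowers y : Set G)) = m * 5 := by
  have hc : Nat.card (zpowers y) = 5 := by rw [Nat.card_zpowers, hy]
  have e : centralizer (zpowers y : Set G) = zpowers y :=
    le_antisymm (fun c h => hC c ((mem_centralizer_zpowers_iff y c).1 h))
      (zpowers_le.2 ((mem_centralizer_zpowers_iff y y).2 rfl))
  let φ := (zpowers y).normalizerMonoidHom
  refine ⟨e, Nat.card φ.range, ?_, ?_⟩
  · have := card_subgroup_dvd_card φ.range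
    rwa [IsCyclic.card_mulAut, hc, Nat.totient_prime Nat.prime_five] at this
  · rw [← Nat.card_congr (QuotientGroup.quotientKerEquivRange φ).toEquiv,
      φ.ker.card_eq_card_quotient_mul_card_subgroup, normalizerMonoidHom_ker,
      Nat.card_congr (subgroupOfEquivOfLe (centralizer_le_normalizer _)).toEquiv, e, hc]

/-- The Sylow count for the prime five. -/
theorem count (h : Nat.card G ∣ 25920) (hs : ¬ Group.IsSolvable G) {y : G} (hy : orderOf y = 5)
    (hC : ∀ c, c * y = y * c → c ∈ zpowers y) :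
    ∃ n, n % 5 = 1 ∧ (Nat.card G = 10 * n ∨ Nat.card G = 20 * n) := by
  obtain ⟨P, hP⟩ := exists_sylow h hy
  obtain ⟨e, m, hm, h1⟩ := card_norm hy hC
  have hP' : (P : Set G) = zpowers y := congrArg SetLike.coe hP
  have h2 := card_sylow_modEq_one 5 G
  rw [P.card_eq_index_normalizer, hP'] at h2
  have h3 := (normalizer (zpowers y : Set G)).card_mul_index
  rw [h1] at h3
  refine ⟨_, h2, ?_⟩
  have := Nat.le_of_dvd (by decide) hm
  interval_cases m
  · exact absurd hm (by decide)
  · refine absurd (solv_tr P ?_ fun K hK => solv5 ((card_subgroup_dvd_card K).trans h) hK) hs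
    rw [hP', e]
    exact (eq_of_le_of_card_ge le_normalizer (by rw [h1, Nat.card_zpowers, hy])).ge
  · exact Or.inl h3.symm
  · exact absurd hm (by decide)
  · exact Or.inr h3.symm

theorem div135 : ∀ i ∈ Nat.divisors 135,
    i = 1 ∨ i = 3 ∨ i = 5 ∨ i = 9 ∨ i = 15 ∨ i = 27 ∨ i = 45 ∨ i = 135 := by decide

universe u in
theorem solv_ext {G : Type u} [Group G] [Finite G] {N H : Subgroup G} (hle : N ≤ H) (hn : H ≤ normalizer (N : Set G)) (h1 : Group.IsSolvable N)
    (h2 : ∀ (X : Type u) [Group X] [Finite X], Nat.card X * Nat.card N = Nat.card H → Group.IsSolvable X) :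
    Group.IsSolvable H := by
  have := (normal_subgroupOf_iff_le_normalizer hle).2 hn
  exact (Group.isSolvable_iff_subgroup_quotient (N.subgroupOf H)).2
    ⟨Group.isSolvable_of_surjective (f := (subgroupOfEquivOfLe hle).symm.toMonoidHom)
      (subgroupOfEquivOfLe hle).symm.surjective, h2 (H ⧸ N.subgroupOf H) (by
        rw [card_eq_card_quotient_mul_card_subgroup (N.subgroupOf H),
          Nat.card_congr (subgroupOfEquivOfLe hle).toEquiv])⟩

theorem sq_eq_one {y : G} (hy : orderOf y = 5) (hC : ∀ c, c * y = y * c → c ∈ zpowers y) {E : Subgroup G}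
    (hE : Nat.card E = 16) (hn : y ∈ normalizer (E : Set G)) :
    ∀ e ∈ E, e * e = 1 ∧ ∀ f ∈ E, e * f = f * e := by
  let A : Subgroup G :=
    { carrier := {e | e ∈ E ∧ e * e = 1 ∧ ∀ f ∈ E, e * f = f * e}
      one_mem' := ⟨one_mem _, mul_one 1, fun f _ => by rw [one_mul, mul_one]⟩
      mul_mem' := fun {a b} ha hb => ⟨mul_mem ha.1 hb.1, by
        rw [mul_assoc, ← mul_assoc b, hb.2.2 a ha.1, mul_assoc, hb.2.1, mul_one, ha.2.1], fun f hf => by
        rw [mul_assoc, hb.2.2 f hf, ← mul_assoc, ha.2.2 f hf, mul_assoc]⟩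
      inv_mem' := fun {a} ha => by rwa [inv_eq_of_mul_eq_one_right ha.2.1] }
  have hle : A ≤ E := fun a ha => ha.1
  have hd : Nat.card A ∣ 2 ^ 4 := (card_dvd_of_le hle).trans hE.dvd
  have h1 := mod5 hy hC (A := A) (mem_normalizer_fintype fun a ha => ⟨(mem_normalizer_iff.1 hn a).1 ha.1, by
    rw [conj_mul, ha.2.1, mul_one, mul_inv_cancel], fun f hf => by
    have := ha.2.2 _ ((mem_normalizer_iff''.1 hn f).1 hf)
    calc y * a * y⁻¹ * f = y * (a * (y⁻¹ * f * y)) * y⁻¹ := by group
      _ = f * (y * a * y⁻¹) := by rw [this]; group⟩) fun h => absurd (h.trans hd) (by decide)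
  have h2 : Nat.card A ≠ 1 := fun e => by
    have hp : IsPGroup 2 E := IsPGroup.of_card (n := 4) hE
    have : Nontrivial E := Finite.one_lt_card_iff_nontrivial.1 (by rw [hE]; decide)
    have := hp.center_nontrivial
    obtain ⟨k, hk0, hk⟩ := (hp.to_subgroup (center E)).nontrivial_iff_card.1 this
    obtain ⟨z, hz⟩ := exists_prime_orderOf_dvd_card' (G := center E) 2 (hk ▸ dvd_pow_self 2 hk0.ne')
    obtain ⟨h3, h4⟩ := orderOf_eq_prime_iff.1 hz
    have : ((z : E) : G) ∈ A := ⟨z.1.2, congrArg (fun a : center E => ((a : E) : G)) ((sq z).symm.trans h3),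
      fun f hf => congrArg Subtype.val (mem_center_iff.1 z.2 ⟨f, hf⟩).symm⟩
    rw [card_eq_one.1 e, mem_bot] at this
    exact h4 (Subtype.ext (Subtype.ext this))
  obtain ⟨k, hk, e⟩ := (Nat.dvd_prime_pow Nat.prime_two).1 hd
  have : A = E := eq_of_le_of_card_ge hle (by
    rw [hE]
    rw [e] at h1 h2 ⊢
    interval_cases k <;> simp_all)
  exact fun a ha => (this.ge ha).2

end U4a

open U4a

theorem exists_loc [IsSimpleGroup G] (hc : Nat.card G = 25920) {x : G} (hx : orderOf x = 5)
    (hC : centralizer ({x} : Set G) = zpowers x) (hN : ¬ IsNGroup G) :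
    ∃ (H E : Subgroup G) (y : G), Loc H E y := by
  obtain ⟨H, hH⟩ := not_forall.1 hN
  obtain ⟨⟨r, E, hr, hp, h0, rfl⟩, hs⟩ := Classical.not_imp.1 hH
  have := Fact.mk hr
  have dv : ∀ K : Subgroup G, Nat.card K ∣ 25920 := fun K => hc ▸ card_subgroup_dvd_card K
  have cy : ∀ {y : G}, orderOf y = 5 → ∀ c, c * y = y * c → c ∈ zpowers y := fun hy _ h =>
    cent_eq hc.dvd hx hC hy h
  obtain ⟨⟨y, hyH⟩, hy'⟩ := exists_prime_orderOf_dvd_card' (G := normalizer (E : Set G)) 5
    (by_contra fun h => hs (solv5 (dv _) h))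
  have hy : orderOf y = 5 := (orderOf_coe _).trans hy'
  obtain ⟨k, hk⟩ := hp.exists_card_eq
  have hk0 : k ≠ 0 := fun e => h0 (card_eq_one.1 (by rw [hk, e, pow_zero]))
  have hEs : Group.IsSolvable E := by
    have := hp.isNilpotent
    infer_instance
  have hd := dv E
  have hE : Nat.card E = 16 := by
    rcases primes hr ((dvd_pow_self r hk0).trans (hk ▸ hd)) with rfl | rfl | rfl
    · have h1 := mod5 hy (cy hy) hyH fun h => absurd (Nat.prime_five.dvd_of_dvd_pow (hk ▸ h)) (by decide)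
      rw [hk] at h1 hd ⊢
      have : k < 7 := not_le.1 fun e => absurd ((pow_dvd_pow 2 e).trans hd) (by decide)
      interval_cases k <;> simp_all
    · have h1 := mod5 hy (cy hy) hyH fun h => absurd (Nat.prime_five.dvd_of_dvd_pow (hk ▸ h)) (by decide)
      rw [hk] at h1 hd
      have : k < 5 := not_le.1 fun e => absurd ((pow_dvd_pow 3 e).trans hd) (by decide)
      obtain rfl : k = 4 := by interval_cases k <;> simp_all
      refine absurd (solv_ext le_normalizer le_rfl hEs fun X _ _ e => ?_) hs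
      have h2 := e ▸ dv (normalizer (E : Set G))
      rw [hk] at h2
      exact solv3 ((dvd_mul_right _ _).trans h2) fun h =>
        absurd ((Nat.mul_dvd_mul_right h _).trans h2) (by decide)
    · obtain ⟨⟨w, hw⟩, hw'⟩ := exists_prime_orderOf_dvd_card' (G := E) 5 (hk ▸ dvd_pow_self 5 hk0)
      have hw5 : orderOf w = 5 := (orderOf_coe _).trans hw'
      obtain ⟨P, hP⟩ := exists_sylow hc.dvd hw5
      obtain rfl : E = zpowers w := (P.is_maximal' hp (hP ▸ zpowers_le.2 hw)).trans hP
      obtain ⟨-, m, hm, e⟩ := card_norm hw5 (cy hw5)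
      exact absurd (solv3 (dv _) fun h =>
        absurd (h.trans (e ▸ Nat.mul_dvd_mul_right hm 5)) (by decide)) hs
  have hsq := sq_eq_one hy (cy hy) hE hyH
  have h5E : ¬ 5 ∣ Nat.card E := by rw [hE]; decide
  have hEK : E ≤ centralizer (E : Set G) := fun e he f hf => ((hsq e he).2 f hf).symm
  have h5K : ¬ 5 ∣ Nat.card (centralizer (E : Set G)) := fun h => by
    obtain ⟨⟨w, hw⟩, hw'⟩ := exists_prime_orderOf_dvd_card' 5 h
    have hw5 : orderOf w = 5 := (orderOf_coe _).trans hw'
    exact h0 (eq_bot_iff.2 fun e he => eq_one hw5 h5E he (cy hw5 e (hw e he)))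
  have hnK : normalizer (E : Set G) ≤ normalizer (centralizer (E : Set G) : Set G) :=
    (normal_subgroupOf_iff_le_normalizer (centralizer_le_normalizer _)).1 inferInstance
  have hK1 := mod5 hy (cy hy) (hnK hyH) h5K
  have h12 : 12 * Nat.card (centralizer (E : Set G)) ∣ Nat.card (normalizer (E : Set G)) := by
    by_contra h
    refine hs (solv_ext (centralizer_le_normalizer _) hnK (solv5 (dv _) h5K) fun X _ _ e => ?_)
    have h2 : Nat.card X ∣ 25920 := (dvd_mul_right _ _).trans (e ▸ dv (normalizer (E : Set G)))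
    by_contra h3
    exact h (e ▸ Nat.mul_dvd_mul_right (Nat.Coprime.mul_dvd_of_dvd_of_dvd (m := 4) (n := 3) (by decide)
      (by_contra fun h4 => h3 (solv4 h2 h4)) (by_contra fun h4 => h3 (solv3 h2 h4))) _)
  obtain ⟨j, hj⟩ := hE ▸ card_dvd_of_le hEK
  have hj1 : j = 1 := by
    have h1 := h12.trans (dv _)
    rw [hj] at h1 hK1
    have h2 : j ∣ 135 := Nat.dvd_of_mul_dvd_mul_left (by decide : 0 < 192) (by rwa [← mul_assoc] at h1)
    have h3 := div135 j (Nat.mem_divisors.2 ⟨h2, by decide⟩)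
    omega
  rw [hj1] at hj
  have hKE : E = centralizer (E : Set G) := eq_of_le_of_card_ge hEK (by rw [hj, hE])
  rw [hj] at h12
  obtain ⟨n, hn, hH⟩ := count (dv _) hs hy' fun c h => by
    obtain ⟨i, hi⟩ := mem_zpowers_iff.1 (cy hy c (congrArg Subtype.val h))
    exact mem_zpowers_iff.2 ⟨i, Subtype.ext hi⟩
  obtain ⟨i, hi⟩ := h12
  have h1 : i ∈ Nat.divisors 135 := Nat.mem_divisors.2 ⟨Nat.dvd_of_mul_dvd_mul_left (by decide : 0 < 192)
    (hi ▸ dv (normalizer (E : Set G))), by decide⟩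
  have h2 : i = 5 ∨ i = 135 := by
    have := div135 i h1
    omega
  rcases h2 with rfl | rfl
  · exact ⟨_, E, y, hyH, hy, le_normalizer, fun h hh e he => (mem_normalizer_iff.1 hh e).1 he, hE, hi,
      fun e he => (hsq e he).1, fun h _ k => hKE.ge fun e he => (k e he).symm,
      fun e he k => eq_one hy h5E he (cy hy e k.symm)⟩
  · have : E.Normal := normalizer_eq_top_iff.1 (eq_top_of_card_eq _ (hi.trans hc.symm))
    rcases this.eq_bot_or_eq_top with e | e
    · exact absurd e h0
    · rw [e, card_top, hc] at hE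
      exact absurd hE (by decide)

end Cfsg.Agent.B15
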