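import Mathlib
import Cfsg.Agent.B15.Defs
import Cfsg.Agent.Inv.UT4

/-! A group of order `64` of the form `2 wr 2^2` is the unitriangular group. -/

set_option autoImplicit false
set_option linter.unusedSectionVars false

namespace Cfsg.Agent.B15

open Cfsg Cfsg.Agent.Ch Cfsg.Agent.Blk.One Subgroup

namespace U4c

variable {T : Type*} [Group T]

/-- Powers of an involution. -/
def pw (g : T) (n : ZMod 2) : T := g ^ n.val

theorem pw_zero (g : T) : pw g 0 = 1 := pow_zero g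
theorem pw_one (g : T) : pw g 1 = g := pow_one g

theorem cases2 (n : ZMod 2) : n = 0 ∨ n = 1 := by revert n; decide

theorem pw_add {g : T} (hg : g * g = 1) (m n : ZMod 2) : pw g (m + n) = pw g m * pw g n := by
  rcases cases2 m with rfl | rfl
  · simp [pw_zero]
  rcases cases2 n with rfl | rfl
  · simp [pw_zero]
  · rw [pw_one, hg]; exact pw_zero g

/-- The base group. -/
def wb (e : Fin 4 → T) (m : Fin 4 → ZMod 2) : T :=
  pw (e 0) (m 0) * pw (e 1) (m 1) * pw (e 2) (m 2) * pw (e 3) (m 3)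

theorem wb_zero (e : Fin 4 → T) : wb e 0 = 1 := by simp [wb, pw_zero]

theorem wb_single (e : Fin 4 → T) (i : Fin 4) (c : ZMod 2) : wb e (Pi.single i c) = pw (e i) c := by
  fin_cases i <;> simp [wb, pw_zero]

/-- `(01)(23)` -/
def s1 : Equiv.Perm (Fin 4) := Equiv.swap 0 1 * Equiv.swap 2 3
/-- `(02)(13)` -/
def s2 : Equiv.Perm (Fin 4) := Equiv.swap 0 2 * Equiv.swap 1 3

/-- Coordinates in the base group. -/
def co (u : Inv.UT4) : Fin 4 → ZMod 2 :=
  ![u.b + (u.d + u.a * u.b) + u.e + (u.f + u.a * u.e), u.d + u.a * u.b + (u.f + u.a * u.e),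
    u.e + (u.f + u.a * u.e), u.f + u.a * u.e]

theorem co_mul (u v : Inv.UT4) : co (u * v) = co u ∘ (pw s1 v.a * pw s2 v.c) + co v := by
  obtain ⟨a, b, c, d, e, f⟩ := u
  obtain ⟨a', b', c', d', e', f'⟩ := v
  revert a b c d e f a' b' c' d' e' f'
  decide +kernel

variable {e : Fin 4 → T} (hsq : ∀ i, e i * e i = 1) (hcomm : ∀ i j, e i * e j = e j * e i)
include hsq hcomm

theorem wb_add (m n : Fin 4 → ZMod 2) : wb e (m + n) = wb e m * wb e n := by
  have sw : ∀ i j m n g, pw (e i) m * (pw (e j) n * g) = pw (e j) n * (pw (e i) m * g) := fun i j m n g =>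
    (Commute.pow_pow (hcomm i j) _ _).left_comm g
  simp only [wb, Pi.add_apply, pw_add (hsq _), mul_assoc]
  rw [← mul_one (pw (e 3) (n 3)), sw 3 0, sw 3 1, sw 3 2, sw 2 0, sw 2 1, sw 1 0]

theorem wb_surj {g : T} (hg : g ∈ closure (Set.range e)) : ∃ m, wb e m = g := by
  induction hg using closure_induction with
  | mem x hx => obtain ⟨i, rfl⟩ := hx; exact ⟨_, (wb_single e i 1).trans (pw_one _)⟩
  | one => exact ⟨0, wb_zero e⟩
  | mul x y _ _ hx hy => obtain ⟨m, rfl⟩ := hx; obtain ⟨n, rfl⟩ := hy; exact ⟨_, wb_add hsq hcomm m n⟩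
  | inv x _ hx =>
    obtain ⟨m, rfl⟩ := hx
    exact ⟨m, eq_inv_of_mul_eq_one_left (by rw [← wb_add hsq hcomm, CharTwo.add_self_eq_zero, wb_zero])⟩

omit hsq hcomm in
theorem wb_mem (m : Fin 4 → ZMod 2) : wb e m ∈ closure (Set.range e) :=
  have h : ∀ i, pw (e i) (m i) ∈ closure (Set.range e) := fun i => pow_mem (Subgroup.subset_closure (Set.mem_range_self i)) _
  mul_mem (mul_mem (mul_mem (h 0) (h 1)) (h 2)) (h 3)

theorem wb_inj (hE : Nat.card (closure (Set.range e)) = 16) : Function.Injective (wb e) := fun m n h =>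
  (Function.Surjective.bijective_of_nat_card_le (f := fun m => (⟨wb e m, wb_mem m⟩ : closure (Set.range e)))
    (fun g => (wb_surj hsq hcomm g.2).imp fun _ => Subtype.ext) (by rw [hE]; simp)).1 (Subtype.ext h)

variable {π : T →* Equiv.Perm (Fin 4)} (hπ : ∀ t i, t * e i * t⁻¹ = e (π t i))
include hπ

theorem wb_conj (t : T) (m : Fin 4 → ZMod 2) : wb e m * t = t * wb e (m ∘ π t) := by
  induction m using Pi.single_induction with
  | zero => rw [Pi.zero_comp, wb_zero, one_mul, mul_one]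
  | add m n hm hn => rw [Pi.add_comp, wb_add hsq hcomm, wb_add hsq hcomm, mul_assoc, hn, ← mul_assoc, hm, mul_assoc]
  | single i c =>
    obtain ⟨j, rfl⟩ := (π t).surjective i
    rw [show (Pi.single (π t j) c : Fin 4 → ZMod 2) ∘ π t = Pi.single j c from
      funext fun k => by simp [Pi.single_apply], wb_single, wb_single, ← hπ, pw, conj_pow, inv_mul_cancel_right, pw]

theorem sq_mul {t : T} {n : Fin 4 → ZMod 2} (h : wb e n = t * t) (m : Fin 4 → ZMod 2) (hm : n + m ∘ π t + m = 0) :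
    t * wb e m * (t * wb e m) = 1 := by
  rw [mul_assoc, ← mul_assoc (wb e m), wb_conj hsq hcomm hπ, ← mul_assoc, ← mul_assoc, ← h, ← wb_add hsq hcomm,
    ← wb_add hsq hcomm, hm, wb_zero]

theorem fix (hE : Nat.card (closure (Set.range e)) = 16) {t : T} {n : Fin 4 → ZMod 2} (h : wb e n * t = t * wb e n) :
    n ∘ π t = n :=
  wb_inj hsq hcomm hE (mul_left_cancel ((wb_conj hsq hcomm hπ t n).symm.trans h))

theorem split (hE : Nat.card (closure (Set.range e)) = 16) (hker : π.ker = closure (Set.range e)) {x y : T}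
    (hx : π x = s1) (hy : π y = s2) :
    ∃ x y : T, π x = s1 ∧ π y = s2 ∧ x * x = 1 ∧ y * y = 1 ∧ Commute x y := by
  have k : ∀ t m, π (t * wb e m) = π t := fun t m => by
    rw [map_mul, (MonoidHom.mem_ker.1 (hker.ge (wb_mem m))), mul_one]
  have sq : ∀ t : T, π t * π t = 1 → ∃ n, wb e n = t * t ∧ n ∘ π t = n := fun t ht => by
    obtain ⟨n, hn⟩ := wb_surj hsq hcomm (hker.le (MonoidHom.mem_ker.2 ((map_mul π t t).trans ht)))
    exact ⟨n, hn, fix hsq hcomm hπ hE (by rw [hn, mul_assoc])⟩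
  obtain ⟨a, ha, a2⟩ : ∃ a, π a = s1 ∧ a * a = 1 := by
    obtain ⟨n, hn, h⟩ := sq x (by rw [hx]; decide)
    refine ⟨_, (k _ _).trans hx, sq_mul hsq hcomm hπ hn ![n 0, 0, n 2, 0] ?_⟩
    rw [hx] at h ⊢
    clear hn
    revert n
    decide +kernel
  obtain ⟨b, hb, b2⟩ : ∃ b, π b = s2 ∧ b * b = 1 := by
    obtain ⟨n, hn, h⟩ := sq y (by rw [hy]; decide)
    refine ⟨_, (k _ _).trans hy, sq_mul hsq hcomm hπ hn ![n 0, n 1, 0, 0] ?_⟩
    rw [hy] at h ⊢
    clear hn
    revert n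
    decide +kernel
  have hab : π (a * b) = s1 * s2 := by rw [map_mul, ha, hb]
  obtain ⟨n, hn, h⟩ := sq (a * b) (by rw [hab]; decide)
  have h' : n ∘ π a = n := fix hsq hcomm hπ hE (by
    have h1 : wb e n * wb e n = 1 := by rw [← wb_add hsq hcomm, CharTwo.add_self_eq_zero, wb_zero]
    nth_rewrite 2 [← inv_eq_of_mul_eq_one_right h1]
    simp only [hn, mul_inv_rev, inv_eq_of_mul_eq_one_right a2, inv_eq_of_mul_eq_one_right b2, mul_assoc])
  have b3 := sq_mul hsq hcomm hπ ((wb_zero e).trans b2.symm) ![n 0, 0, n 0, 0] (by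
    rw [hb]; generalize n 0 = c; revert c; decide +kernel)
  have h3 := sq_mul hsq hcomm hπ hn ![n 0, 0, n 0, 0] (by
    rw [hab] at h ⊢; rw [ha] at h'; clear hn b3; revert n; decide +kernel)
  refine ⟨a, _, ha, (k _ _).trans hb, a2, b3, ?_⟩
  rw [mul_assoc a b] at h3
  rw [commute_iff_eq, ← inv_eq_of_mul_eq_one_right h3, mul_inv_rev, inv_eq_of_mul_eq_one_right a2,
    inv_eq_of_mul_eq_one_right b3]

end U4c

open U4c

/-- A group of order `64` of the form `2 wr 2^2`. -/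
theorem nonempty_ut4 {T : Type*} [Group T] [Finite T] (hT : Nat.card T = 64) (e : Fin 4 → T)
    (hsq : ∀ i, e i * e i = 1) (hcomm : ∀ i j, e i * e j = e j * e i)
    (hE : Nat.card (closure (Set.range e)) = 16) (π : T →* Equiv.Perm (Fin 4))
    (hπ : ∀ t i, t * e i * t⁻¹ = e (π t i)) (hker : π.ker = closure (Set.range e))
    (hev : ∀ t, Equiv.Perm.sign (π t) = 1) : Nonempty (Inv.UT4 ≃* T) := by
  have h4 : Nat.card π.range = 4 := by
    have := π.ker.card_mul_index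
    rw [index_ker, hker, hE, hT] at this
    omega
  have hV : ∀ t, π t ∈ ({1, s1, s2, s1 * s2} : Finset _) := fun t => by
    have h1 : π t ^ 4 = 1 := congrArg Subtype.val (h4 ▸ pow_card_eq_one' (x := (⟨π t, t, rfl⟩ : π.range)))
    have h2 := hev t
    generalize π t = s at h1 h2
    revert s
    decide +kernel
  have hR : (π.range : Set (Equiv.Perm (Fin 4))) = ({1, s1, s2, s1 * s2} : Finset (Equiv.Perm (Fin 4))) :=
    Set.eq_of_subset_of_ncard_le (by rintro _ ⟨t, rfl⟩; exact hV t) (by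
      rw [Set.ncard_coe_finset, ← Nat.card_coe_set_eq, SetLike.coe_sort_coe, h4]; decide +kernel)
  obtain ⟨x0, hx0⟩ : s1 ∈ π.range := hR.ge (by simp)
  obtain ⟨y0, hy0⟩ : s2 ∈ π.range := hR.ge (by simp)
  obtain ⟨x, y, hx, hy, x2, y2, xy⟩ := split hsq hcomm hπ hE hker hx0 hy0
  let φ : Inv.UT4 →* T := MonoidHom.mk' (fun u => pw x u.a * pw y u.c * wb e (co u)) fun u v => by
    rw [mul_assoc _ (wb e _), ← mul_assoc (wb e _), wb_conj hsq hcomm hπ, co_mul, wb_add hsq hcomm, map_mul,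
      Inv.UT4.mul_def, pw_add x2, pw_add y2]
    simp only [pw, map_pow, hx, hy, mul_assoc]
    rw [(xy.pow_pow _ _).left_comm]
  have e0 : ∀ u, φ u = pw x u.a * pw y u.c * wb e (co u) := fun _ => rfl
  have m1 : x ∈ φ.range := ⟨⟨1, 0, 0, 0, 0, 0⟩, by simp [e0, co, wb, pw_zero, pw_one]⟩
  have m2 : y ∈ φ.range := ⟨⟨0, 0, 1, 0, 0, 0⟩, by simp [e0, co, wb, pw_zero, pw_one]⟩
  have m3 : e 0 ∈ φ.range := ⟨⟨0, 1, 0, 0, 0, 0⟩, by simp [e0, co, wb, pw_zero, pw_one]⟩
  have m4 : ∀ s ∈ ({1, s1, s2, s1 * s2} : Finset _), ∃ t ∈ φ.range, π t = s := by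
    simp only [Finset.mem_insert, Finset.mem_singleton, forall_eq_or_imp, forall_eq]
    exact ⟨⟨1, one_mem _, map_one π⟩, ⟨x, m1, hx⟩, ⟨y, m2, hy⟩, _, mul_mem m1 m2, by rw [map_mul, hx, hy]⟩
  have m5 : π.ker ≤ φ.range := hker.le.trans ((closure_le _).2 (by
    rintro _ ⟨i, rfl⟩
    obtain ⟨s, hs, rfl⟩ : ∃ s ∈ ({1, s1, s2, s1 * s2} : Finset _), s 0 = i := by revert i; decide +kernel
    obtain ⟨t, ht, rfl⟩ := m4 s hs
    exact hπ t 0 ▸ mul_mem (mul_mem ht m3) (inv_mem ht)))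
  have : Finite Inv.UT4 := Nat.finite_of_card_ne_zero (by rw [Inv.UT4.card]; norm_num)
  refine ⟨MulEquiv.ofBijective φ (Function.Surjective.bijective_of_nat_card_le (fun t => ?_) (by rw [hT, Inv.UT4.card]))⟩
  obtain ⟨s, hs, h⟩ := m4 _ (hV t)
  exact (mul_mem_cancel_left (inv_mem hs)).1 (m5 (by rw [MonoidHom.mem_ker, map_mul, map_inv, h, inv_mul_cancel]))

end Cfsg.Agent.B15
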